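import Mathlib

/-!
# A finite model of `GL(2, 3)` with its two-dimensional representation over `ℤ[√-2]`
-/

set_option autoImplicit false

namespace Cfsg.Agent.H4.BW

/-- entries of a two by two matrix over `ZMod 3` -/
abbrev M4 : Type := ZMod 3 × ZMod 3 × ZMod 3 × ZMod 3

def mul (x y : M4) : M4 :=
  (x.1 * y.1 + x.2.1 * y.2.2.1, x.1 * y.2.1 + x.2.1 * y.2.2.2,
    x.2.2.1 * y.1 + x.2.2.2 * y.2.2.1, x.2.2.1 * y.2.1 + x.2.2.2 * y.2.2.2)

def det (x : M4) : ZMod 3 := x.1 * x.2.2.2 - x.2.1 * x.2.2.1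

def one : M4 := (1, 0, 0, 1)

def neg : M4 := (2, 0, 0, 2)

def y8 : M4 := (1, 1, 2, 1)

def GL3 : Finset M4 := Finset.univ.filter fun m => det m ≠ 0

theorem mem_GL3 {m : M4} : m ∈ GL3 ↔ det m ≠ 0 := by simp [GL3]

def tab : ℕ := 16933399326151119064412123708799802512883657673519065168074869263649461012326311089004878368473466414257094937726370486995803704387534943926040190775723103643379467966425360509930455219840595207066908247094567011619739910403820284286577104768333383644426805671011308813946554080233074554534518022275443936092024600865062999993188130646509119775941821910283022260002494861817178296867076093258276662387569021300461991059502676212546348738655885018145866499671834239946738420663765799752187774314254857288942253757009730949402570812194314183660374220945529152956143669978721157120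

def ent (m : M4) (j : ℕ) : ℤ :=
  ((tab / 8 ^ (8 * (m.1.val + 3 * m.2.1.val + 9 * m.2.2.1.val + 27 * m.2.2.2.val) + j) % 8 : ℕ) : ℤ) - 2

/-- the entries of the lift to `GL(2, ℤ[√-2])` -/
def r (m : M4) (j : ℕ) : ℤ√(-2) := ⟨ent m (2 * j), ent m (2 * j + 1)⟩

theorem r_mul : ∀ x y : M4, det x ≠ 0 → det y ≠ 0 →
    r (mul x y) 0 = r x 0 * r y 0 + r x 1 * r y 2 ∧ r (mul x y) 1 = r x 0 * r y 1 + r x 1 * r y 3 ∧
    r (mul x y) 2 = r x 2 * r y 0 + r x 3 * r y 2 ∧
    r (mul x y) 3 = r x 2 * r y 1 + r x 3 * r y 3 := by decide +kernel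

theorem r_one : r one 0 = 1 ∧ r one 1 = 0 ∧ r one 2 = 0 ∧ r one 3 = 1 := by decide +kernel

def X (m : M4) : ℤ√(-2) := r m 0 + r m 3

def d (m : M4) : ℤ√(-2) := if det m = 1 then 1 else -1

theorem d_mul : ∀ x y : M4, det x ≠ 0 → det y ≠ 0 → d (mul x y) = d x * d y := by decide +kernel

theorem d_one : d one = 1 := by decide +kernel

def c5 : M4 → ℤ√(-2) := X * star X - 1
def c4 : M4 → ℤ√(-2) := X * X - d
def c8 : M4 → ℤ√(-2) := c4 * X - star X
def c3 : M4 → ℤ√(-2) := c4 * c4 - 1 - c4 - c5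
def p1 : M4 → ℤ√(-2) := X - star X
def p6 : M4 → ℤ√(-2) := c3 - X
def p2 : M4 → ℤ√(-2) := 1 - c4 + X
def p4 : M4 → ℤ√(-2) := 1 + c5 - c8
def p0 : M4 → ℤ√(-2) :=
  1 + d + (c3 + c3) + (c4 + c4 + c4) + (c5 + c5 + c5) - (X + X) - (star X + star X) -
    (c8 + c8 + c8 + c8)

/-- some power is `-1` -/
def Dm (m : M4) : Prop :=
  m = neg ∨ mul m m = neg ∨ mul m (mul m m) = neg ∨ mul m (mul m (mul m m)) = neg

instance (m : M4) : Decidable (Dm m) := by unfold Dm; infer_instance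

theorem supp_p : ∀ m : M4, det m ≠ 0 → ¬ Dm m →
    p0 m = 0 ∧ p1 m = 0 ∧ p6 m = 0 ∧ p2 m = 0 ∧ p4 m = 0 := by decide +kernel

theorem p0_eq : ∀ m : M4, det m ≠ 0 → p0 m = if m = neg then 48 else 0 := by decide +kernel

def dot (f g : M4 → ℤ√(-2)) : ℤ√(-2) := ∑ m ∈ GL3, f m * star (g m)

theorem card_GL3 : GL3.card = 48 := by decide +kernel

theorem gram1 : dot p1 p1 = 96 ∧ dot p6 p6 = 96 ∧ dot p6 p1 = -48 ∧ dot p2 p2 = 144 ∧
    dot p2 p1 = 48 ∧ dot p2 p6 = -48 := by decide +kernel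

theorem gram2 : dot p4 p4 = 144 ∧ dot p4 p1 = 0 ∧ dot p4 p6 = 0 ∧ dot p4 p2 = 48 := by
  decide +kernel

theorem gram3 : dot p1 1 = 0 ∧ dot p6 1 = 0 ∧ dot p2 1 = 48 ∧ dot p4 1 = 48 ∧ dot p0 1 = 48 := by
  decide +kernel

theorem gram4 : dot p0 p0 = 2304 ∧ dot p0 p1 = 0 ∧ dot p0 p6 = 192 ∧ dot p0 p2 = -192 ∧
    dot p0 p4 = 384 := by decide +kernel

def cnt (m : M4) : ℕ :=
  (GL3.filter fun n => (mul n n = one ∧ n ≠ one) ∧
    mul (mul n m) (mul n m) = one ∧ mul n m ≠ one).card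

theorem lam2 : ∑ m ∈ GL3, p2 m * (cnt m : ℤ√(-2)) = 96 := by decide +kernel

theorem lam4 : ∑ m ∈ GL3, p4 m * (cnt m : ℤ√(-2)) = 192 := by decide +kernel

theorem y8_facts : det y8 ≠ 0 ∧ mul (mul y8 y8) (mul y8 y8) = neg ∧ mul neg neg = one ∧
    neg ≠ one := by decide +kernel

theorem eq_neg_of_comm : ∀ m : M4, mul m m = one → m ≠ one → mul m y8 = mul y8 m → m = neg := by
  decide +kernel

theorem eq_neg_of_d : ∀ m : M4, mul m m = one → m ≠ one → d m = 1 → m = neg := by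
  decide +kernel

theorem eq_one_of_idem : ∀ m : M4, det m ≠ 0 → mul m m = m → m = one := by decide +kernel

end Cfsg.Agent.H4.BW
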