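import Cfsg.Agent.Lib.H6.GL2Fus

/-!
Blocks: a direct summand of `F^n` with a basis, given by matrices `X`, `Φ` with `Φ X = 1`.
-/

set_option autoImplicit false
set_option linter.unusedSectionVars false

namespace Cfsg.Agent.H4

open Matrix
open scoped MatrixGroups

variable {ι n F : Type*} [Fintype ι] [DecidableEq ι] [Fintype n] [DecidableEq n] [Field F]

/-- a direct summand of `F^n` with a basis indexed by `ι` -/
structure Blk (ι n F : Type*) [Fintype ι] [DecidableEq ι] [Fintype n] [Field F] where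
  X : Matrix n ι F
  Φ : Matrix ι n F
  h : Φ * X = 1

/-- the involution attached to an idempotent -/
def zz (e : Matrix n n F) : Matrix n n F := 1 - e - e

theorem sl_mul (a b : SpecialLinearGroup n F) : (a * b).1 = a.1 * b.1 := rfl
theorem sl_one : (1 : SpecialLinearGroup n F).1 = 1 := rfl
theorem sl_inv_mul (a : SpecialLinearGroup n F) : a⁻¹.1 * a.1 = 1 := by
  rw [← sl_mul, inv_mul_cancel, sl_one]
theorem sl_mul_inv (a : SpecialLinearGroup n F) : a.1 * a⁻¹.1 = 1 := by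
  rw [← sl_mul, mul_inv_cancel, sl_one]
theorem sl_inv_mul' {κ : Type*} (a : SpecialLinearGroup n F) (m : Matrix n κ F) :
    a⁻¹.1 * (a.1 * m) = m := by rw [← Matrix.mul_assoc, sl_inv_mul, Matrix.one_mul]
theorem sl_mul_inv' {κ : Type*} (a : SpecialLinearGroup n F) (m : Matrix n κ F) :
    a.1 * (a⁻¹.1 * m) = m := by rw [← Matrix.mul_assoc, sl_mul_inv, Matrix.one_mul]

/-- the elements acting trivially on the summand given by `f` -/
def SLe (f : Matrix n n F) : Subgroup (SpecialLinearGroup n F) where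
  carrier := {x | x.1 * f = f ∧ f * x.1 = f}
  mul_mem' {a b} ha hb := ⟨by
    rw [sl_mul, mul_assoc, hb.1, ha.1], by rw [sl_mul, ← mul_assoc, ha.2, hb.2]⟩
  one_mem' := by simp
  inv_mem' {a} ha := ⟨by
    nth_rewrite 1 [← ha.1]
    rw [sl_inv_mul'], by
    nth_rewrite 1 [← ha.2]
    rw [mul_assoc, sl_mul_inv, mul_one]⟩

theorem mem_SLe {f : Matrix n n F} {x : SpecialLinearGroup n F} :
    x ∈ SLe f ↔ x.1 * f = f ∧ f * x.1 = f := Iff.rfl

theorem SLe_comm {e : Matrix n n F} {x : SpecialLinearGroup n F} (h : x ∈ SLe (1 - e)) :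
    x.1 * e = e * x.1 := by
  have := h.1.trans h.2.symm
  rwa [mul_sub, sub_mul, mul_one, one_mul, sub_right_inj] at this

theorem SLe_le {e f : Matrix n n F} (h1 : e * f = 0) (h2 : f * e = 0) : SLe (1 - e) ≤ SLe f :=
  fun x hx => by
    have a1 : (1 - e) * f = f := by rw [sub_mul, h1, one_mul, sub_zero]
    have a2 : f * (1 - e) = f := by rw [mul_sub, h2, mul_one, sub_zero]
    exact ⟨by rw [← a1, ← mul_assoc, hx.1], by rw [← a2, mul_assoc, hx.2]⟩

theorem SLe_commute {f : Matrix n n F} {x y : SpecialLinearGroup n F} (hx : x ∈ SLe (1 - f))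
    (hy : y ∈ SLe f) : x * y = y * x := Subtype.ext (by
  have c := SLe_comm hx
  have d := hy.1.trans hy.2.symm
  calc x.1 * y.1 = x.1 * (y.1 * f) + x.1 * (1 - f) * y.1 := by rw [d]; noncomm_ring
    _ = y.1 * f * x.1 + y.1 * ((1 - f) * x.1) := by
      rw [hy.1, hx.1, hx.2, c, sub_mul, mul_sub, d, one_mul, mul_one]
    _ = y.1 * x.1 := by noncomm_ring)

namespace Blk

variable (B : Blk ι n F)

/-- the projection -/
def e : Matrix n n F := B.X * B.Φ
/-- extension by the identity -/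
def emb (g : Matrix ι ι F) : Matrix n n F := B.X * g * B.Φ + (1 - B.e)
/-- restriction -/
def res (m : Matrix n n F) : Matrix ι ι F := B.Φ * m * B.X

theorem hX {κ : Type*} (m : Matrix ι κ F) : B.Φ * (B.X * m) = m := by
  rw [← Matrix.mul_assoc, B.h, Matrix.one_mul]
theorem e_X : B.e * B.X = B.X := by rw [e, Matrix.mul_assoc, B.h, Matrix.mul_one]
theorem Φ_e : B.Φ * B.e = B.Φ := B.hX _
theorem e_e : B.e * B.e = B.e := by rw [e, Matrix.mul_assoc, B.hX]

theorem e_ne [Nonempty ι] : B.e ≠ 0 := fun h => by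
  have := B.h
  rw [← B.e_X, h, Matrix.zero_mul, Matrix.mul_zero] at this
  exact zero_ne_one this

theorem one_sub_ne (h : Fintype.card ι < Fintype.card n) : 1 - B.e ≠ 0 := fun h' => by
  have := (rank_mul_le_left B.X B.Φ).trans (rank_le_card_width B.X)
  rw [← e, ← sub_eq_zero.1 h', rank_one] at this
  omega

theorem emb_mul (g h : Matrix ι ι F) : B.emb (g * h) = B.emb g * B.emb h := by
  simp only [emb, e, Matrix.add_mul, Matrix.mul_add, Matrix.sub_mul, Matrix.mul_sub,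
    Matrix.mul_assoc, B.hX, Matrix.mul_one, Matrix.one_mul]
  abel
theorem emb_one : B.emb 1 = 1 := by simp [emb, e]
theorem emb_neg_one : B.emb (-1) = zz B.e := by
  simp only [emb, e, zz, Matrix.mul_neg, Matrix.neg_mul, Matrix.mul_one]; abel
theorem det_emb (g : Matrix ι ι F) : (B.emb g).det = g.det := by
  have : B.emb g = 1 + B.X * ((g - 1) * B.Φ) := by
    simp only [emb, e, Matrix.sub_mul, Matrix.mul_sub, Matrix.mul_assoc, Matrix.one_mul]; abel
  rw [this, det_one_add_mul_comm, Matrix.mul_assoc, B.h, Matrix.mul_one, add_sub_cancel]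
theorem res_emb (g : Matrix ι ι F) : B.res (B.emb g) = g := by
  simp [emb, res, e, Matrix.add_mul, Matrix.mul_add, Matrix.sub_mul, Matrix.mul_sub,
    Matrix.mul_assoc, B.hX, B.h]
theorem emb_e (g : Matrix ι ι F) : B.emb g * (1 - B.e) = 1 - B.e := by
  simp [emb, e, Matrix.add_mul, Matrix.sub_mul, Matrix.mul_sub, Matrix.mul_assoc, B.hX]
theorem e_emb (g : Matrix ι ι F) : (1 - B.e) * B.emb g = 1 - B.e := by
  simp [emb, e, Matrix.mul_add, Matrix.sub_mul, Matrix.mul_sub, Matrix.mul_assoc, B.hX]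
theorem X_res_Φ (m : Matrix n n F) : B.X * B.res m * B.Φ = B.e * m * B.e := by
  simp only [res, e, Matrix.mul_assoc]
theorem emb_res {m : Matrix n n F} (h : m * B.e = B.e * m) :
    B.emb (B.res m) = m * B.e + (1 - B.e) := by
  rw [emb, X_res_Φ, ← h, mul_assoc, e_e]
theorem res_mul {m : Matrix n n F} (h : m * B.e = B.e * m) (m' : Matrix n n F) :
    B.res (m * m') = B.res m * B.res m' := by
  calc _ = B.Φ * B.e * m * m' * B.X := by simp only [res, Φ_e, Matrix.mul_assoc]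
    _ = B.Φ * (m * B.e) * m' * B.X := by rw [h]; simp only [Matrix.mul_assoc]
    _ = _ := by simp only [res, e, Matrix.mul_assoc]
theorem mul_e_of_res {m : Matrix n n F} (h : m * B.e = B.e * m) {c : F} (hc : B.res m = c • 1) :
    m * B.e = c • B.e := by
  rw [← e_e, ← mul_assoc, h, ← X_res_Φ, hc, e_e, e]; simp
theorem res_of_mul_e {m : Matrix n n F} {c : F} (hc : m * B.e = c • B.e) : B.res m = c • 1 := by
  rw [res, ← e_X, Matrix.mul_assoc, ← Matrix.mul_assoc m, hc, Matrix.smul_mul, e_X, Matrix.mul_smul,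
    B.h]

/-- the embedding of special linear groups -/
def embSL : SpecialLinearGroup ι F →* SpecialLinearGroup n F where
  toFun g := ⟨B.emb g.1, by rw [det_emb, g.2]⟩
  map_one' := Subtype.ext B.emb_one
  map_mul' g h := Subtype.ext (B.emb_mul g.1 h.1)

theorem coe_embSL (g : SpecialLinearGroup ι F) : (B.embSL g).1 = B.emb g.1 := rfl

theorem embSL_injective : Function.Injective B.embSL := fun g h e => Subtype.ext (by
  rw [← B.res_emb g.1, ← coe_embSL, e, coe_embSL, res_emb])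

theorem embSL_mem (g : SpecialLinearGroup ι F) : B.embSL g ∈ SLe (1 - B.e) :=
  ⟨B.emb_e _, B.e_emb _⟩

theorem exists_embSL {x : SpecialLinearGroup n F} (h : x ∈ SLe (1 - B.e)) : ∃ g, B.embSL g = x := by
  have e1 : B.emb (B.res x.1) = x.1 := by
    rw [B.emb_res (SLe_comm h), ← h.1, ← mul_add, add_sub_cancel, mul_one]
  exact ⟨⟨B.res x.1, by rw [← B.det_emb, e1, x.2]⟩, Subtype.ext e1⟩

/-- the image of a block -/
def conj (g : SpecialLinearGroup n F) : Blk ι n F where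
  X := g.1 * B.X
  Φ := B.Φ * g⁻¹.1
  h := by rw [Matrix.mul_assoc, sl_inv_mul', B.h]

theorem conj_e (g : SpecialLinearGroup n F) : (B.conj g).e = g.1 * B.e * g⁻¹.1 := by
  simp only [e, conj, Matrix.mul_assoc]

theorem flip (B' : Blk ι n F) {m : Matrix n n F} (h : B.e * B'.e * m * B.e = B.e) :
    B'.e * m * B.e * B'.e = B'.e := by
  have h1 : B.Φ * B'.X * (B'.Φ * m * B.X) = 1 := by
    have := congrArg (fun m => B.Φ * m * B.X) h
    simpa only [e, Matrix.mul_assoc, B.hX, B.h, Matrix.mul_one] using this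
  calc _ = B'.X * (B'.Φ * m * B.X * (B.Φ * B'.X)) * B'.Φ := by simp only [e, Matrix.mul_assoc]
    _ = _ := by rw [mul_eq_one_comm.1 h1, Matrix.mul_one, e]

theorem eq_of_le (B' : Blk ι n F) (h1 : B.e * B'.e = B'.e) (h2 : B'.e * B.e = B'.e) :
    B.e = B'.e := by
  have := B'.flip B (m := 1) (by rw [mul_one, h2, B'.e_e])
  rwa [mul_one, h1, h2, eq_comm] at this

theorem emb_comm {z : Matrix n n F} {c : F} (h1 : z * B.X = c • B.X) (h2 : B.Φ * z = c • B.Φ)
    (g : Matrix ι ι F) : B.emb g * z = z * B.emb g := by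
  simp only [emb, e, Matrix.add_mul, Matrix.mul_add, Matrix.sub_mul, Matrix.mul_sub,
    Matrix.mul_assoc, h2, ← Matrix.mul_assoc z, h1, Matrix.mul_smul, Matrix.smul_mul,
    Matrix.one_mul, Matrix.mul_one]

theorem exists_swap (B' : Blk ι n F) (h1 : B.e * B'.e = 0) (h2 : B'.e * B.e = 0) :
    ∃ w : SpecialLinearGroup n F, w.1 * B.e = B'.e * w.1 ∧ w.1 * B'.e = B.e * w.1 ∧
      w ∈ SLe (1 - (B.e + B'.e)) := by
  have a1 : B.Φ * B'.X = 0 := by
    rw [← B.Φ_e, ← B'.e_X, Matrix.mul_assoc, ← Matrix.mul_assoc B.e, h1]; simp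
  have a2 : B'.Φ * B.X = 0 := by
    rw [← B'.Φ_e, ← B.e_X, Matrix.mul_assoc, ← Matrix.mul_assoc B'.e, h2]; simp
  have b1 : ∀ m : Matrix ι n F, B.Φ * (B'.X * m) = 0 := fun m => by
    rw [← Matrix.mul_assoc, a1, Matrix.zero_mul]
  have b2 : ∀ m : Matrix ι n F, B'.Φ * (B.X * m) = 0 := fun m => by
    rw [← Matrix.mul_assoc, a2, Matrix.zero_mul]
  have e1 : (1 + B.X * B'.Φ) * (1 + B'.X * -B.Φ) * (1 + B.X * B'.Φ) =
      B.X * B'.Φ - B'.X * B.Φ + (1 - (B.e + B'.e)) := by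
    simp only [e, Matrix.add_mul, Matrix.mul_add, Matrix.mul_neg, Matrix.neg_mul, Matrix.mul_assoc,
      B.hX, B'.hX, b1, b2, Matrix.mul_one, Matrix.one_mul, Matrix.mul_zero, neg_add]
    abel
  refine ⟨⟨B.X * B'.Φ - B'.X * B.Φ + (1 - (B.e + B'.e)), by
    rw [← e1, det_mul, det_mul, det_one_add_mul_comm, det_one_add_mul_comm B'.X, Matrix.neg_mul,
      a1, a2]; simp⟩, ?_, ?_, ?_, ?_⟩ <;>
  simp [e, Matrix.add_mul, Matrix.mul_add, Matrix.sub_mul, Matrix.mul_sub, Matrix.mul_assoc,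
    B.hX, B'.hX, b1, b2]
  abel

end Blk

theorem exists_blk {p : Matrix n n F} (hp : p * p = p) (X : Matrix n ι F)
    (hX : LinearIndependent F X.col) (h : p * X = X) :
    ∃ B : Blk ι n F, B.X = X ∧ B.Φ * p = B.Φ := by
  obtain ⟨g, hg⟩ := LinearMap.exists_leftInverse_of_injective (toLin' X)
    (LinearMap.ker_eq_bot.2 (mulVec_injective_iff.2 hX))
  refine ⟨⟨X, LinearMap.toMatrix' g * p, ?_⟩, rfl, by rw [Matrix.mul_assoc, hp]⟩
  rw [Matrix.mul_assoc, h, ← LinearMap.toMatrix'_id, ← hg, LinearMap.toMatrix'_comp,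
    LinearMap.toMatrix'_toLin']

theorem exists_blk_one {p : Matrix n n F} (hp : p * p = p) (h0 : p ≠ 0) :
    ∃ B : Blk (Fin 1) n F, p * B.X = B.X ∧ B.Φ * p = B.Φ := by
  obtain ⟨v, hv⟩ : ∃ v, p *ᵥ v ≠ 0 := by
    by_contra h
    push Not at h
    exact h0 (ext_iff_mulVec.2 fun v => by rw [h, zero_mulVec])
  have h1 : p * replicateCol (Fin 1) (p *ᵥ v) = replicateCol (Fin 1) (p *ᵥ v) := by
    rw [← replicateCol_mulVec, mulVec_mulVec, hp]
  obtain ⟨B, hB, h2⟩ := exists_blk hp (replicateCol (Fin 1) (p *ᵥ v))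
    (linearIndependent_unique_iff.2 hv) h1
  exact ⟨B, hB ▸ h1, h2⟩

theorem exists_blk_two {p m : Matrix n n F} (hp : p * p = p) (hm : m * p = p * m)
    (h : ∀ c : F, m * p ≠ c • p) : ∃ B : Blk (Fin 2) n F, p * B.X = B.X ∧ B.Φ * p = B.Φ ∧
      ∀ ε : F, m * m * p = ε • p → m * B.X = B.X * !![0, ε; 1, 0] := by
  obtain ⟨v, hv, hl⟩ : ∃ v, p *ᵥ v = v ∧ LinearIndependent F ![v, m *ᵥ v] := by
    by_contra hn
    push Not at hn
    have hW : ∀ v ∈ LinearMap.range (toLin' p), toLin' m v ∈ LinearMap.range (toLin' p) := by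
      rintro _ ⟨v, rfl⟩
      exact ⟨m *ᵥ v, by simp only [toLin'_apply, mulVec_mulVec, hm]⟩
    obtain ⟨c, hc⟩ := LinearMap.exists_eq_smul_id_of_forall_notLinearIndependent
      (f := (toLin' m).restrict hW) (by
        rintro ⟨_, v, rfl⟩ hl
        refine hn (p *ᵥ v) (by rw [mulVec_mulVec, hp]) ?_
        refine LinearIndependent.pair_iff.2 fun s t e => LinearIndependent.pair_iff.1 hl s t ?_
        exact Subtype.ext e)
    refine h c (ext_iff_mulVec.2 fun v => ?_)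
    have := congrArg Subtype.val (LinearMap.congr_fun hc ⟨_, v, rfl⟩)
    rw [← mulVec_mulVec, smul_mulVec]
    exact this
  have key : ∀ a : Matrix n n F, a * (of ![v, m *ᵥ v])ᵀ = (of ![a *ᵥ v, a *ᵥ m *ᵥ v])ᵀ := fun a => by
    ext i j
    fin_cases j <;> rfl
  have h1 : p * (of ![v, m *ᵥ v])ᵀ = (of ![v, m *ᵥ v])ᵀ := by
    rw [key, mulVec_mulVec, ← hm, ← mulVec_mulVec, hv]
  obtain ⟨B, hB, h2⟩ := exists_blk hp (of ![v, m *ᵥ v])ᵀ hl h1
  refine ⟨B, hB ▸ h1, h2, fun ε hε => ?_⟩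
  have h3 : m *ᵥ m *ᵥ v = ε • v := by
    rw [← hv, mulVec_mulVec, mulVec_mulVec, hε, smul_mulVec]
  rw [hB, key, h3]
  ext i j
  fin_cases j <;> simp [Matrix.mul_apply, Fin.sum_univ_two, mul_comm]

theorem exists_blk_comm (h2 : (2 : F) ≠ 0) {p m : Matrix n n F} (hp : p * p = p)
    (hm : m * p = p * m) (h : ∀ c : F, m * p ≠ c • p) {ε : F} (hε : ε * ε = 1)
    (hm2 : m * m * p = ε • p) : ∃ B : Blk (Fin 2) n F, p * B.X = B.X ∧ B.Φ * p = B.Φ ∧
      m * B.X = B.X * !![0, ε; 1, 0] ∧ B.Φ * m = !![0, ε; 1, 0] * B.Φ := by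
  obtain ⟨B, h3, h4, h5⟩ := exists_blk_two hp hm h
  replace h5 := h5 ε hm2
  obtain ⟨S, hS⟩ : ∃ S, S = !![0, ε; 1, 0] := ⟨_, rfl⟩
  have hS2 : S * S = ε • (1 : Matrix (Fin 2) (Fin 2) F) := by
    rw [hS]; ext i j; fin_cases i <;> fin_cases j <;> simp
  have h6 : B.Φ * m * m = ε • B.Φ := by
    calc _ = B.Φ * (m * m * p) := by
          rw [mul_assoc m, hm, ← mul_assoc m, hm, mul_assoc p, ← Matrix.mul_assoc B.Φ, h4,
            Matrix.mul_assoc]
      _ = _ := by rw [hm2, Matrix.mul_smul, h4]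
  rw [← hS] at h5 ⊢
  refine ⟨⟨B.X, (2 : F)⁻¹ • (B.Φ + ε • (S * (B.Φ * m))), ?_⟩, h3, ?_, h5, ?_⟩
  · rw [Matrix.smul_mul, Matrix.add_mul, Matrix.smul_mul, Matrix.mul_assoc, Matrix.mul_assoc, h5,
      B.hX, B.h, hS2, smul_smul, hε, one_smul, ← two_smul F, smul_smul, inv_mul_cancel₀ h2,
      one_smul]
  · simp only [Matrix.smul_mul, Matrix.add_mul, Matrix.mul_assoc, hm, h4]
    rw [← Matrix.mul_assoc B.Φ, h4]
  · simp only [Matrix.smul_mul, Matrix.add_mul, Matrix.mul_smul, Matrix.mul_add]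
    rw [Matrix.mul_assoc, h6, ← Matrix.mul_assoc S S, hS2, Matrix.mul_smul, Matrix.smul_mul,
      smul_smul, smul_smul, hε, one_smul, one_smul, Matrix.one_mul, add_comm]

theorem scalar_of_comm {a b m : Matrix (Fin 2) (Fin 2) F} (hab : a * b ≠ b * a)
    (h1 : m * a = a * m) (h2 : m * b = b * m) : ∃ c : F, m = c • 1 := by
  by_contra hn
  have k : ∀ {a b : Matrix (Fin 2) (Fin 2) F}, a * b = b * a ↔ a 0 1 * b 1 0 = a 1 0 * b 0 1 ∧
      a 0 1 * (b 0 0 - b 1 1) = (a 0 0 - a 1 1) * b 0 1 ∧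
      a 1 0 * (b 0 0 - b 1 1) = (a 0 0 - a 1 1) * b 1 0 := fun {a b} => by
    simp only [← Matrix.ext_iff, Fin.forall_fin_two, Matrix.mul_apply, Fin.sum_univ_two]
    exact ⟨fun ⟨⟨e1, e2⟩, e3, _⟩ => ⟨by linear_combination e1, by linear_combination -e2,
      by linear_combination e3⟩, fun ⟨e1, e2, e3⟩ => ⟨⟨by linear_combination e1,
      by linear_combination -e2⟩, by linear_combination e3, by linear_combination -e1⟩⟩
  obtain ⟨a1, a2, a3⟩ := k.1 h1
  obtain ⟨b1, b2, b3⟩ := k.1 h2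
  refine hab (k.2 ?_)
  by_cases c1 : m 0 1 = 0
  · by_cases c2 : m 1 0 = 0
    · by_cases c3 : m 0 0 - m 1 1 = 0
      · refine absurd ⟨m 0 0, ?_⟩ hn
        ext i j
        fin_cases i <;> fin_cases j <;> simp [c1, c2, sub_eq_zero.1 c3]
      · refine ⟨mul_left_cancel₀ c3 ?_, mul_left_cancel₀ c3 ?_, mul_left_cancel₀ c3 ?_⟩ <;> grind
    · refine ⟨mul_left_cancel₀ c2 ?_, mul_left_cancel₀ c2 ?_, mul_left_cancel₀ c2 ?_⟩ <;> grind
  · refine ⟨mul_left_cancel₀ c1 ?_, mul_left_cancel₀ c1 ?_, mul_left_cancel₀ c1 ?_⟩ <;> grind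

end Cfsg.Agent.H4
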