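import Cfsg.Agent.Lib.H4.ModP
import Cfsg.Agent.Lib.H1.Coprime
import Cfsg.Agent.Lib.H2.AbAct

/-!
# Class numbers of extensions of abelian groups
-/

set_option autoImplicit false

open scoped ComplexConjugate Pointwise commutatorElement

namespace Cfsg.Agent.H4

open Cfsg H3

section Split

theorem card_conjClasses_le_semidirect {X : Type*} [Group X] [Finite X] (V : Subgroup X)
    [V.Normal] (φ : X ⧸ V →* MulAut V)
    (hφ : ∀ (x : X) (v : V), ((φ (QuotientGroup.mk x) v : V) : X) = x * v * x⁻¹) :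
    Nat.card (ConjClasses X) ≤ Nat.card (ConjClasses (SemidirectProduct V (X ⧸ V) φ)) := by
  classical
  have hfin : Finite (SemidirectProduct V (X ⧸ V) φ) :=
    Finite.of_equiv _ SemidirectProduct.equivProd.symm
  have hcard : Nat.card (SemidirectProduct V (X ⧸ V) φ) = Nat.card X := by
    rw [SemidirectProduct.card, Subgroup.card_eq_card_quotient_mul_card_subgroup V, mul_comm]
  have hc : ∀ q : (X ⧸ V) × (X ⧸ V), ∃ c : X × X, ∀ x y : X, Commute x y →
      ((x : X ⧸ V), (y : X ⧸ V)) = q → Commute c.1 c.2 ∧ ((c.1 : X ⧸ V), (c.2 : X ⧸ V)) = q := by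
    intro q
    by_cases h : ∃ c : X × X, Commute c.1 c.2 ∧ ((c.1 : X ⧸ V), (c.2 : X ⧸ V)) = q
    · obtain ⟨c, hc⟩ := h
      exact ⟨c, fun _ _ _ _ => hc⟩
    · exact ⟨1, fun x y h1 h2 => (h ⟨(x, y), h1, h2⟩).elim⟩
  choose c hc using hc
  have hmem : ∀ {x y : X}, (y : X ⧸ V) = x → x * y⁻¹ ∈ V := fun {x y} h => by
    have := QuotientGroup.eq.mp h
    have h2 := (inferInstance : V.Normal).conj_mem _ this y
    simpa [mul_assoc] using h2
  let f : {p : X × X // Commute p.1 p.2} →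
      {p : SemidirectProduct V (X ⧸ V) φ × SemidirectProduct V (X ⧸ V) φ // Commute p.1 p.2} :=
    fun p => ⟨(⟨⟨p.1.1 * (c (p.1.1, p.1.2)).1⁻¹, hmem (congrArg Prod.fst (hc _ _ _ p.2 rfl).2)⟩,
        p.1.1⟩, ⟨⟨p.1.2 * (c (p.1.1, p.1.2)).2⁻¹, hmem (congrArg Prod.snd (hc _ _ _ p.2 rfl).2)⟩,
        p.1.2⟩), by
      obtain ⟨⟨x, y⟩, hxy⟩ := p
      obtain ⟨h1, h2⟩ := hc _ _ _ hxy rfl
      have h3 : (x : X ⧸ V) = ((c (x, y)).1 : X ⧸ V) := (congrArg Prod.fst h2).symm
      have h4 : (y : X ⧸ V) = ((c (x, y)).2 : X ⧸ V) := (congrArg Prod.snd h2).symm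
      apply SemidirectProduct.ext
      · apply Subtype.ext
        simp only [SemidirectProduct.mul_left, Subgroup.coe_mul]
        have h3' : ∀ v : V, (φ x v : X) = (c (x, y)).1 * v * (c (x, y)).1⁻¹ := fun v => by
          rw [← hφ, ← h3]
        have h4' : ∀ v : V, (φ y v : X) = (c (x, y)).2 * v * (c (x, y)).2⁻¹ := fun v => by
          rw [← hφ, ← h4]
        rw [h3', h4']
        dsimp only at h1 ⊢
        generalize (c (x, y)).1 = a at h1
        generalize (c (x, y)).2 = b at h1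
        have h5 : b⁻¹ * a⁻¹ = a⁻¹ * b⁻¹ := h1.inv_inv.symm.eq
        calc x * a⁻¹ * (a * (y * b⁻¹) * a⁻¹) = x * y * (b⁻¹ * a⁻¹) := by group
          _ = y * x * (a⁻¹ * b⁻¹) := by rw [h5, hxy.eq]
          _ = _ := by group
      · simp only [SemidirectProduct.mul_right, ← QuotientGroup.mk_mul]
        rw [hxy.eq]⟩
  have hf : Function.Injective f := by
    rintro ⟨⟨x, y⟩, hxy⟩ ⟨⟨x', y'⟩, hxy'⟩ h
    simp only [f, Subtype.mk.injEq, Prod.mk.injEq, SemidirectProduct.ext_iff] at h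
    obtain ⟨⟨h1, h2⟩, h3, h4⟩ := h
    rw [h2, h4] at h1 h3
    simp only [mul_left_inj] at h1 h3
    simp [h1, h3]
  have := Nat.card_le_card_of_injective f hf
  rw [card_comm_eq_card_conjClasses_mul_card, card_comm_eq_card_conjClasses_mul_card, hcard] at this
  exact Nat.le_of_mul_le_mul_right this Nat.card_pos

end Split

section Coprime

variable {X : Type*} [Group X] [Finite X]

theorem card_commuting_lifts (V : Subgroup X) [hV : V.Normal]
    (hab : ∀ a ∈ V, ∀ b ∈ V, a * b = b * a) {g h : X} (hgh : Commute g h)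
    (hcop : (Nat.card (Subgroup.closure {g, h} : Subgroup X)).Coprime (Nat.card V)) :
    Nat.card {p : V × V // Commute (p.1 * g : X) (p.2 * h)} =
      Nat.card V * Nat.card {v : V // Commute (v : X) g ∧ Commute (v : X) h} := by
  have := H2.isMulCommutative_of_comm hab
  letI : CommGroup V := { (inferInstance : Group V) with
    mul_comm := fun a b => Subtype.ext (hab a a.2 b b.2) }
  let α : V →* V := (MulAut.conjNormal g : MulAut V).toMonoidHom
  let β : V →* V := (MulAut.conjNormal h : MulAut V).toMonoidHom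
  let F : V × V →* V := (MonoidHom.fst V V * (β.comp (MonoidHom.fst V V))⁻¹) *
    (α.comp (MonoidHom.snd V V) * (MonoidHom.snd V V)⁻¹)
  have hF : ∀ p : V × V, (F p : X) = ⁅(p.1 : X), h⁆ * ⁅g, (p.2 : X)⁆ := by
    intro p
    simp [F, α, β, commutatorElement_def, mul_assoc]
  have hker : ∀ p : V × V, Commute (p.1 * g : X) (p.2 * h) ↔ p ∈ F.ker := by
    rintro ⟨⟨u, hu⟩, ⟨w, hw⟩⟩
    rw [MonoidHom.mem_ker, ← Subtype.coe_inj, hF]
    simp only [OneMemClass.coe_one, commutatorElement_def]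
    have h1 := hab _ (hV.conj_mem _ (inv_mem hu) h) _ (hV.conj_mem _ hw g)
    have h2 := hab _ (hV.conj_mem _ (inv_mem hu) h) _ (inv_mem hw)
    have e : u * h * u⁻¹ * h⁻¹ * (g * w * g⁻¹ * w⁻¹) =
        (u * g * (w * h)) * (w * h * (u * g))⁻¹ := by
      calc _ = u * ((h * u⁻¹ * h⁻¹) * (g * w * g⁻¹)) * w⁻¹ := by group
        _ = u * ((g * w * g⁻¹) * (h * u⁻¹ * h⁻¹)) * w⁻¹ := by rw [h1]
        _ = u * g * w * (g⁻¹ * h) * u⁻¹ * h⁻¹ * w⁻¹ := by group
        _ = u * g * w * (h * g⁻¹) * u⁻¹ * h⁻¹ * w⁻¹ := by rw [hgh.inv_left.eq]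
        _ = _ := by group
    rw [e, mul_inv_eq_one]
    rfl
  let A : Subgroup X := Subgroup.closure {g, h}
  have hgA : g ∈ A := Subgroup.subset_closure (by simp)
  have hhA : h ∈ A := Subgroup.subset_closure (by simp)
  have hrange : F.range.map V.subtype = ⁅V, A⁆ := by
    apply le_antisymm
    · rintro _ ⟨_, ⟨p, rfl⟩, rfl⟩
      rw [Subgroup.coe_subtype, hF]
      refine mul_mem (Subgroup.commutator_mem_commutator p.1.2 hhA) ?_
      rw [Subgroup.commutator_comm]
      exact Subgroup.commutator_mem_commutator hgA p.2.2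
    · have key : ∀ x : X, Commute x g → Commute x h →
          x ∈ Subgroup.normalizer ((F.range.map V.subtype : Subgroup X) : Set X) := by
        intro x hxg hxh
        refine Subgroup.mem_normalizer_fintype ?_
        rintro _ ⟨_, ⟨p, rfl⟩, rfl⟩
        refine ⟨_, ⟨(⟨_, hV.conj_mem _ p.1.2 x⟩, ⟨_, hV.conj_mem _ p.2.2 x⟩), rfl⟩, ?_⟩
        simp only [Subgroup.coe_subtype, hF]
        have e1 : h = x * h * x⁻¹ := by rw [hxh.eq]; group
        have e2 : g = x * g * x⁻¹ := by rw [hxg.eq]; group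
        conv_lhs => rw [e1, e2]
        simp only [commutatorElement_def]
        group
      refine (H1.le_commutatorStab_iff.1 ?_).2
      rw [Subgroup.closure_le]
      rintro x (rfl | rfl)
      · refine ⟨key _ (Commute.refl _) hgh, fun k hk => ⟨(F (1, ⟨k, hk⟩))⁻¹,
          inv_mem ⟨_, rfl⟩, ?_⟩⟩
        simp [hF, commutatorElement_def, mul_assoc]
      · refine ⟨key _ hgh.symm (Commute.refl _), fun k hk => ⟨F (⟨k, hk⟩, 1), ⟨_, rfl⟩, ?_⟩⟩
        simp [hF]
  obtain ⟨h1, h2⟩ := H2.abelian_coprime_decomposition A V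
    (by rw [Subgroup.normalizer_eq_top]; exact le_top) hcop
  have h3 := H2.card_sup_mul_card_inf (V ⊓ Subgroup.centralizer (A : Set X)) ⁅V, A⁆ (by
    intro x hx
    refine Subgroup.mem_normalizer_fintype fun y hy => ?_
    have hy' : y ∈ V := (Subgroup.commutator_le_left V A) hy
    rw [hab x hx.1 y hy']
    simpa using hy)
  rw [h1, h2, Subgroup.card_bot, mul_one] at h3
  have h4 : Nat.card {v : V // Commute (v : X) g ∧ Commute (v : X) h} =
      Nat.card (V ⊓ Subgroup.centralizer (A : Set X) : Subgroup X) := by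
    have e : ∀ v : X, v ∈ Subgroup.centralizer (A : Set X) ↔ Commute v g ∧ Commute v h := by
      intro v
      rw [show (A : Set X) = (Subgroup.closure {g, h} : Subgroup X) from rfl,
        Subgroup.centralizer_closure, Subgroup.mem_centralizer_iff]
      simp only [Set.mem_insert_iff, Set.mem_singleton_iff, forall_eq_or_imp, forall_eq]
      exact ⟨fun h => ⟨h.1.symm, h.2.symm⟩, fun h => ⟨h.1.symm, h.2.symm⟩⟩
    exact Nat.card_congr ⟨fun v => ⟨v.1, v.1.2, (e _).mpr v.2⟩,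
      fun v => ⟨⟨v.1, v.2.1⟩, (e _).mp v.2.2⟩, fun _ => rfl, fun _ => rfl⟩
  have h5 : Nat.card F.range = Nat.card (⁅V, A⁆ : Subgroup X) := by
    rw [← hrange, Subgroup.card_map_of_injective V.subtype_injective]
  have h6 : Nat.card (V × V) = Nat.card F.range * Nat.card F.ker := by
    rw [Subgroup.card_eq_card_quotient_mul_card_subgroup F.ker,
      Nat.card_congr (QuotientGroup.quotientKerEquivRange F).toEquiv]
  rw [Nat.card_congr (Equiv.subtypeEquivRight hker), h4]
  rw [Nat.card_prod, h5] at h6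
  have hpos : 0 < Nat.card (⁅V, A⁆ : Subgroup X) := Nat.card_pos
  apply Nat.eq_of_mul_eq_mul_left hpos
  rw [← h6]
  conv_lhs => rhs; rw [h3]
  ring

theorem sum_transversal (G : Subgroup X) (T S : Finset X) (hST : ∀ s ∈ S, s ∈ T)
    (hT : ∀ v ∈ T, ∀ g ∈ G, g * v * g⁻¹ ∈ T)
    (hrep : ∀ v ∈ T, ∃! s, s ∈ S ∧ ∃ g ∈ G, g * v * g⁻¹ = s) (κ : X → ℕ)
    (hκ : ∀ v, ∀ g ∈ G, κ (g * v * g⁻¹) = κ v) :
    ∑ v ∈ T, κ v * Nat.card (G ⊓ Subgroup.centralizer ({v} : Set X) : Subgroup X) =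
      Nat.card G * ∑ s ∈ S, κ s := by
  classical
  have := Fintype.ofFinite G
  have h1 : Nat.card G * ∑ s ∈ S, κ s =
      ∑ p ∈ (Finset.univ : Finset G) ×ˢ S, κ ((p.1 : X)⁻¹ * p.2 * p.1) := by
    have : ∀ g : G, ∑ s ∈ S, κ ((g : X)⁻¹ * s * g) = ∑ s ∈ S, κ s := fun g =>
      Finset.sum_congr rfl fun s _ => by simpa using hκ s _ (inv_mem g.2)
    rw [Finset.sum_product]
    simp [this]
  rw [h1, ← Finset.sum_fiberwise_of_maps_to (t := T) (g := fun p : G × X => (p.1 : X)⁻¹ * p.2 * p.1)]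
  · refine Finset.sum_congr rfl fun v hv => ?_
    rw [Finset.sum_congr rfl (g := fun _ => κ v) (fun p hp => by
      rw [(Finset.mem_filter.mp hp).2]), Finset.sum_const, smul_eq_mul, mul_comm]
    congr 1
    obtain ⟨s, ⟨hs, g, hg, rfl⟩, huniq⟩ := hrep v hv
    rw [← Nat.card_eq_finsetCard]
    refine Nat.card_congr ⟨fun c => ⟨(⟨g * c.1, mul_mem hg c.2.1⟩, g * v * g⁻¹), ?_⟩,
      fun p => ⟨g⁻¹ * p.1.1, G.mul_mem (G.inv_mem hg) p.1.1.2, ?_⟩, fun c => ?_, fun p => ?_⟩
    · have := Subgroup.mem_centralizer_singleton_iff.mp c.2.2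
      simp only [Finset.mem_filter, Finset.mem_product, Finset.mem_univ, true_and, hs]
      calc _ = (c.1)⁻¹ * (v * c.1) := by group
        _ = v := by rw [← this]; group
    · obtain ⟨⟨x, s⟩, hp⟩ := p
      simp only [Finset.mem_filter, Finset.mem_product, Finset.mem_univ, true_and] at hp
      have := huniq s ⟨hp.1, x, x.2, by rw [← hp.2]; group⟩
      refine Subgroup.mem_centralizer_singleton_iff.mpr ?_
      have h2 := hp.2
      rw [this] at h2
      calc g⁻¹ * x * v = g⁻¹ * x * ((x : X)⁻¹ * (g * v * g⁻¹) * x) := by rw [h2]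
        _ = v * (g⁻¹ * x) := by group
    · ext; simp
    · obtain ⟨⟨x, s⟩, hp⟩ := p
      simp only [Finset.mem_filter, Finset.mem_product, Finset.mem_univ, true_and] at hp
      have := huniq s ⟨hp.1, x, x.2, by rw [← hp.2]; group⟩
      ext <;> simp [this]
  · intro p hp
    simpa using hT _ (hST _ (Finset.mem_product.mp hp).2) _ (inv_mem p.1.2)

theorem card_conjClasses_congr {G H : Type*} [Group G] [Group H] [Finite G] (e : G ≃* H) :
    Nat.card (ConjClasses G) = Nat.card (ConjClasses H) := by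
  have : Finite H := Finite.of_equiv _ e.toEquiv
  rw [← card_irr_eq_card_conjClasses, ← card_irr_eq_card_conjClasses,
    Nat.card_congr (irrEquivOfMulEquiv e)]

theorem card_conjClasses_eq_sum_stabilizers (V : Subgroup X) [hV : V.Normal]
    (hab : ∀ a ∈ V, ∀ b ∈ V, a * b = b * a) (G : Subgroup X) (hGV : Subgroup.IsComplement' V G)
    (hcop : (Nat.card V).Coprime (Nat.card G)) (S : Finset X) (hSV : ∀ s ∈ S, s ∈ V)
    (hrep : ∀ v ∈ V, ∃! s, s ∈ S ∧ ∃ g ∈ G, g * v * g⁻¹ = s) :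
    Nat.card (ConjClasses X) =
      ∑ s ∈ S, Nat.card (ConjClasses ↥(G ⊓ Subgroup.centralizer ({s} : Set X))) := by
  classical
  have := Fintype.ofFinite X
  let κ : X → ℕ := fun s => Nat.card (ConjClasses ↥(G ⊓ Subgroup.centralizer ({s} : Set X)))
  have hκ : ∀ v, ∀ g ∈ G, κ (g * v * g⁻¹) = κ v := by
    intro v g hg
    have : (G ⊓ Subgroup.centralizer ({v} : Set X)).map (MulAut.conj g).toMonoidHom =
        G ⊓ Subgroup.centralizer ({g * v * g⁻¹} : Set X) := by
      ext x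
      rw [Subgroup.mem_map_equiv, Subgroup.mem_inf, Subgroup.mem_inf,
        centralizer_singleton_conj_iff]
      simp only [MulAut.conj_symm_apply]
      rw [G.mul_mem_cancel_right hg, G.mul_mem_cancel_left (inv_mem hg)]
    simp only [κ]
    rw [← this]
    exact (card_conjClasses_congr ((MulAut.conj g).subgroupMap _)).symm
  have h1 := sum_transversal G (Finset.univ.filter (· ∈ V)) S (by simpa using hSV)
    (by simpa using fun v hv g _ => hV.conj_mem v hv g) (by simpa using hrep) κ hκ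
  have h2 : ∀ v : X, κ v * Nat.card (G ⊓ Subgroup.centralizer ({v} : Set X) : Subgroup X) =
      ∑ q : G × G, if Commute (q.1 : X) q.2 ∧ Commute v q.1 ∧ Commute v q.2 then 1 else 0 := by
    intro v
    rw [← card_comm_eq_card_conjClasses_mul_card, Finset.sum_boole, Nat.cast_id,
      ← Fintype.card_subtype, ← Nat.card_eq_fintype_card]
    exact Nat.card_congr ⟨fun p => ⟨(⟨p.1.1, p.1.1.2.1⟩, ⟨p.1.2, p.1.2.2.1⟩),
      congrArg Subtype.val p.2, (Subgroup.mem_centralizer_singleton_iff.mp p.1.1.2.2).symm,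
      (Subgroup.mem_centralizer_singleton_iff.mp p.1.2.2.2).symm⟩,
      fun q => ⟨(⟨q.1.1, q.1.1.2, Subgroup.mem_centralizer_singleton_iff.mpr q.2.2.1.symm⟩,
        ⟨q.1.2, q.1.2.2, Subgroup.mem_centralizer_singleton_iff.mpr q.2.2.2.symm⟩),
        Subtype.ext q.2.1⟩, fun _ => rfl, fun _ => rfl⟩
  have h3 : Nat.card {p : X × X // Commute p.1 p.2} =
      ∑ q : G × G, Nat.card {p : V × V // Commute (p.1 * q.1 : X) (p.2 * q.2)} := by
    rw [← Nat.card_sigma]
    refine (Nat.card_congr (Equiv.ofBijective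
      (fun t : (Σ q : G × G, {p : V × V // Commute (p.1 * q.1 : X) (p.2 * q.2)}) =>
        (⟨(t.2.1.1 * t.1.1, t.2.1.2 * t.1.2), t.2.2⟩ : {p : X × X // Commute p.1 p.2}))
        ⟨?_, ?_⟩)).symm
    · rintro ⟨⟨g, h⟩, ⟨u, w⟩, hc⟩ ⟨⟨g', h'⟩, ⟨u', w'⟩, hc'⟩ heq
      simp only [Subtype.mk.injEq, Prod.mk.injEq] at heq
      have e1 := hGV.1 (a₁ := (u, g)) (a₂ := (u', g')) heq.1
      have e2 := hGV.1 (a₁ := (w, h)) (a₂ := (w', h')) heq.2
      simp only [Prod.mk.injEq] at e1 e2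
      obtain ⟨rfl, rfl⟩ := e1
      obtain ⟨rfl, rfl⟩ := e2
      rfl
    · rintro ⟨⟨x, y⟩, hxy⟩
      obtain ⟨⟨u, g⟩, rfl⟩ := hGV.2 x
      obtain ⟨⟨w, h⟩, rfl⟩ := hGV.2 y
      exact ⟨⟨(g, h), (u, w), hxy⟩, rfl⟩
  have h4 : ∀ q : G × G, Nat.card {p : V × V // Commute (p.1 * q.1 : X) (p.2 * q.2)} =
      Nat.card V * ∑ v ∈ Finset.univ.filter (· ∈ V),
        if Commute (q.1 : X) q.2 ∧ Commute v q.1 ∧ Commute v q.2 then 1 else 0 := by
    rintro ⟨g, h⟩
    by_cases hc : Commute (g : X) h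
    · rw [card_commuting_lifts V hab hc]
      · congr 1
        simp only [hc, true_and]
        rw [Finset.sum_boole, Nat.cast_id, Finset.filter_filter, ← Fintype.card_subtype,
          ← Nat.card_eq_fintype_card]
        exact Nat.card_congr (Equiv.subtypeSubtypeEquivSubtypeInter (· ∈ V)
          (fun v => Commute v (g : X) ∧ Commute v (h : X)))
      · refine hcop.symm.coprime_dvd_left (Subgroup.card_dvd_of_le ?_)
        rw [Subgroup.closure_le]
        rintro _ (rfl | rfl)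
        exacts [g.2, h.2]
    · simp only [hc, false_and, if_false, Finset.sum_const_zero, mul_zero]
      rw [Nat.card_eq_zero]
      left
      refine ⟨fun p => hc ?_⟩
      have h5 : (((g : X) * h * (g : X)⁻¹ * (h : X)⁻¹ : X) : X ⧸ V) = 1 := by
        have := congrArg (QuotientGroup.mk : X → X ⧸ V) p.2.eq
        simp only [QuotientGroup.mk_mul, QuotientGroup.mk_inv, (QuotientGroup.eq_one_iff _).mpr p.1.1.2,
          (QuotientGroup.eq_one_iff _).mpr p.1.2.2, one_mul] at this ⊢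
        rw [this]; group
      have h6 := Subgroup.disjoint_def.mp hGV.disjoint ((QuotientGroup.eq_one_iff _).mp h5)
        (mul_mem (mul_mem (mul_mem g.2 h.2) (inv_mem g.2)) (inv_mem h.2))
      rwa [mul_inv_eq_one, mul_inv_eq_iff_eq_mul] at h6
  rw [card_comm_eq_card_conjClasses_mul_card, Finset.sum_congr rfl (fun q _ => h4 q),
    ← Finset.mul_sum, Finset.sum_comm, ← Finset.sum_congr rfl (fun v _ => h2 v), h1,
    ← mul_assoc, hGV.card_mul_card, mul_comm] at h3
  exact Nat.eq_of_mul_eq_mul_left Nat.card_pos h3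

theorem centralizer_pow_of_coprime {v : X} {m : ℕ} (hm : m.Coprime (Nat.card X)) :
    Subgroup.centralizer ({v ^ m} : Set X) = Subgroup.centralizer ({v} : Set X) := by
  ext x
  rw [Subgroup.mem_centralizer_singleton_iff, Subgroup.mem_centralizer_singleton_iff]
  constructor
  · intro h
    have : v ^ m ∈ Subgroup.centralizer ({x} : Set X) :=
      Subgroup.mem_centralizer_singleton_iff.mpr h.symm
    rw [pow_mem_iff_of_coprime _ hm] at this
    exact (Subgroup.mem_centralizer_singleton_iff.mp this).symm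
  · intro h
    exact (Commute.pow_right h m).eq

theorem sum_norm_sq_column (v : X) :
    ∑ χ : IrrCharacter X, ‖(χ : X → ℂ) v‖ ^ 2 = Nat.card (Subgroup.centralizer ({v} : Set X)) := by
  have := column_orthogonality_of_isConj (IsConj.refl v)
  simp only [Complex.mul_conj, Complex.normSq_eq_norm_sq] at this
  exact_mod_cast this

/-- the set of powers of `v` with exponent prime to the group order -/
theorem exists_galois_orbit (v : X) : ∃ S : Finset X, S.Nonempty ∧
    (∀ g ∈ S, ∀ m : ℕ, m.Coprime (Nat.card X) → g ^ m ∈ S) ∧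
    ∀ g ∈ S, ∃ m : ℕ, m.Coprime (Nat.card X) ∧ g = v ^ m := by
  classical
  have := Fintype.ofFinite X
  refine ⟨Finset.univ.filter fun g => ∃ m : ℕ, m.Coprime (Nat.card X) ∧ g = v ^ m,
    ⟨v, by simpa using ⟨1, by simp, by simp⟩⟩, ?_, by simp⟩
  intro g hg m hm
  simp only [Finset.mem_filter, Finset.mem_univ, true_and] at hg ⊢
  obtain ⟨k, hk, rfl⟩ := hg
  exact ⟨k * m, Nat.Coprime.mul_left hk hm, by rw [pow_mul]⟩

theorem card_conjClasses_add_le_of_nonvanishing (N : Subgroup X) [N.Normal] {v : X} (hv : v ∈ N)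
    (h0 : ∀ χ : IrrCharacter X, (χ : X → ℂ) v ≠ 0) :
    Nat.card (ConjClasses X) + Nat.card (X ⧸ N) ≤
      Nat.card (Subgroup.centralizer ({v} : Set X)) + Nat.card (ConjClasses (X ⧸ N)) := by
  classical
  obtain ⟨S, hS0, hS1, hS2⟩ := exists_galois_orbit v
  let P : IrrCharacter X → Prop := fun χ => ∀ x ∈ N, (χ : X → ℂ) x = (χ : X → ℂ) 1
  have h1 : ∀ w ∈ S, (Nat.card (Subgroup.centralizer ({v} : Set X)) : ℝ) =
      Nat.card (X ⧸ N) + ∑ χ ∈ Finset.univ.filter (fun χ => ¬ P χ), ‖(χ : X → ℂ) w‖ ^ 2 := by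
    intro w hw
    obtain ⟨m, hm, rfl⟩ := hS2 w hw
    rw [← centralizer_pow_of_coprime hm, ← sum_norm_sq_column,
      ← Finset.sum_filter_add_sum_filter_not Finset.univ P]
    congr 1
    rw [Finset.sum_subtype (p := P) _ (by simp), ← Equiv.sum_comp (irrQuotientEquiv N)]
    simp only [irrQuotientEquiv_apply, (QuotientGroup.eq_one_iff _).mpr (N.pow_mem hv m)]
    rw [sum_norm_sq_column, card_centralizer_one]
  have h2 : ∀ χ ∈ Finset.univ.filter (fun χ => ¬ P χ),
      (S.card : ℝ) ≤ ∑ w ∈ S, ‖(χ : X → ℂ) w‖ ^ 2 := fun χ _ =>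
    card_le_sum_norm_pow (isGen_of_isCharacter (irr_isChar χ)) S hS1 (fun w hw => by
      obtain ⟨m, hm, rfl⟩ := hS2 w hw
      exact (pow_ne_zero_iff_of_coprime (isGen_of_isCharacter (irr_isChar χ)) hm).mpr (h0 χ)) 2
  have h3 := Finset.sum_le_sum h2
  rw [Finset.sum_comm] at h3
  have h4 := Finset.sum_congr rfl h1
  rw [Finset.sum_add_distrib] at h4
  simp only [Finset.sum_const, nsmul_eq_mul] at h3 h4
  have h5 : Nat.card (ConjClasses X) = Nat.card (ConjClasses (X ⧸ N)) +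
      (Finset.univ.filter (fun χ => ¬ P χ)).card := by
    rw [← card_irr_eq_card_conjClasses, ← card_irr_eq_card_conjClasses,
      Nat.card_congr (irrQuotientEquiv N), Nat.card_eq_fintype_card, ← Finset.card_univ,
      ← Finset.card_filter_add_card_filter_not P, Nat.card_eq_fintype_card, Fintype.card_subtype]
  have h6 : (0 : ℝ) < S.card := by exact_mod_cast hS0.card_pos
  have h7 : ((Finset.univ.filter (fun χ => ¬ P χ)).card : ℝ) + Nat.card (X ⧸ N) ≤
      Nat.card (Subgroup.centralizer ({v} : Set X)) := by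
    apply le_of_mul_le_mul_left _ h6
    linarith
  have h8 : (Finset.univ.filter (fun χ => ¬ P χ)).card + Nat.card (X ⧸ N) ≤
      Nat.card (Subgroup.centralizer ({v} : Set X)) := by exact_mod_cast h7
  omega

theorem card_eq_of_complement_le {V G C : Subgroup X} (hGV : Subgroup.IsComplement' V G)
    (hVC : V ≤ C) : Nat.card C = Nat.card (G ⊓ C : Subgroup X) * Nat.card V := by
  rw [← Nat.card_prod]
  refine (Nat.card_congr (Equiv.ofBijective (fun p : (G ⊓ C : Subgroup X) × V =>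
    (⟨p.2 * p.1, mul_mem (hVC p.2.2) p.1.2.2⟩ : C)) ⟨?_, ?_⟩)).symm
  · rintro ⟨g, u⟩ ⟨g', u'⟩ h
    have := hGV.1 (a₁ := (u, ⟨g, g.2.1⟩)) (a₂ := (u', ⟨g', g'.2.1⟩)) (congrArg Subtype.val h)
    simp only [Prod.mk.injEq, Subtype.mk.injEq] at this
    exact Prod.ext (Subtype.ext this.2) this.1
  · rintro ⟨x, hx⟩
    obtain ⟨⟨u, g⟩, rfl⟩ := hGV.2 x
    exact ⟨(⟨g, g.2, (C.mul_mem_cancel_left (hVC u.2)).mp hx⟩, u), rfl⟩

theorem irr_ne_zero_of_mem_abelian_sylow {p : ℕ} [hp : Fact p.Prime] (V : Subgroup X) [V.Normal]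
    (hVp : IsPGroup p V) (hidx : ¬ p ∣ V.index) (hab : ∀ a ∈ V, ∀ b ∈ V, a * b = b * a)
    {v : X} (hv : v ∈ V) (χ : IrrCharacter X) : (χ : X → ℂ) v ≠ 0 := by
  obtain ⟨k, hk⟩ := hVp ⟨v, hv⟩
  exact char_ne_zero_of_pElement hp.out (irr_isChar χ)
    (fun h => hidx (h.trans (charDegree_dvd_index_abelian_normal χ.2 V hab)))
    (k := k) (congrArg Subtype.val hk)

theorem kgv_stabilizer_bound (p : ℕ) [Fact p.Prime] (V : Subgroup X) [V.Normal]
    (hVp : IsPGroup p V) (hidx : ¬ p ∣ V.index) (hab : ∀ a ∈ V, ∀ b ∈ V, a * b = b * a)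
    (G : Subgroup X) (hGV : Subgroup.IsComplement' V G) (v : X) (hv : v ∈ V) :
    Nat.card (ConjClasses X) + Nat.card G ≤
      Nat.card ↥(G ⊓ Subgroup.centralizer ({v} : Set X)) * Nat.card V +
        Nat.card (ConjClasses G) := by
  have h := card_conjClasses_add_le_of_nonvanishing V hv
    (irr_ne_zero_of_mem_abelian_sylow V hVp hidx hab hv)
  have e := hGV.symm.QuotientMulEquiv
  rwa [card_conjClasses_congr e, Nat.card_congr e.toEquiv, card_eq_of_complement_le hGV
    (fun u hu => Subgroup.mem_centralizer_singleton_iff.mpr (hab u hu v hv))] at h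

end Coprime

end Cfsg.Agent.H4
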