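import Cfsg.Agent.Lib.H6.GrpFus

/-!
An element of odd order of a finite symmetric group normalising a Sylow 2-subgroup is trivial.
-/

set_option autoImplicit false
set_option linter.style.haveILetI false

namespace Cfsg.Agent.H4

open Subgroup H6 Equiv
open scoped Classical Pointwise

universe u

/-- no non-trivial permutation of odd order normalises a Sylow 2-subgroup -/
def PermOdd (Ω : Type*) : Prop :=
  ∀ P : Subgroup (Perm Ω), SylIn 2 P ⊤ → ∀ σ ∈ normalizer (P : Set (Perm Ω)),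
    Odd (orderOf σ) → σ = 1

theorem PermOdd.act {G X : Type*} [Group G] [Finite G] (a : G → X → X) (h1 : ∀ x, a 1 x = x)
    (hm : ∀ g h x, a (g * h) x = a g (a h x)) {Ω : Set X} [Finite Ω] (hΩ : PermOdd Ω)
    {T : Subgroup G} (hT : SylIn 2 T ⊤) (hTΩ : ∀ t ∈ T, ∀ x ∈ Ω, a t x ∈ Ω)
    (hsw : ∀ x ∈ Ω, ∀ y ∈ Ω, x ≠ y → ∃ g, a g x = y ∧ a g y = x ∧
      ∀ z ∈ Ω, z ≠ x → z ≠ y → a g z = z)
    {σ : X → X} (hσ : Set.MapsTo σ Ω Ω) (ho : ∃ m, Odd m ∧ ∀ x ∈ Ω, σ^[m] x = x)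
    (hn : ∀ t ∈ T, ∃ t' ∈ T, ∀ x ∈ Ω, σ (a t x) = a t' (σ x)) : ∀ x ∈ Ω, σ x = x := by
  letI : MulAction G X := { smul := a, one_smul := h1, mul_smul := hm }
  haveI := Fact.mk Nat.prime_two
  have mN : ∀ g, g ∈ MulAction.stabilizer G Ω ↔ ∀ ⦃x⦄, x ∈ Ω → a g x ∈ Ω := fun g =>
    MulAction.mem_stabilizer_set' (Set.toFinite Ω)
  letI : MulAction (MulAction.stabilizer G Ω) Ω :=
    { smul := fun g x => ⟨a g x, (mN g).1 g.2 x.2⟩
      one_smul := fun x => Subtype.ext (h1 x)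
      mul_smul := fun g h x => Subtype.ext (hm g h x) }
  obtain ⟨ρ, hρ⟩ : ∃ ρ : MulAction.stabilizer G Ω →* Perm Ω, ∀ g x, (ρ g x : X) = a g x :=
    ⟨MulAction.toPermHom _ _, fun _ _ => rfl⟩
  have hs : (⊤ : Subgroup _).map ρ = ⊤ := by
    rw [← MonoidHom.range_eq_map, eq_top_iff, ← Perm.closure_isSwap, closure_le]
    rintro _ ⟨x, y, hxy, rfl⟩
    obtain ⟨g, e1, e2, e3⟩ := hsw x x.2 y y.2 fun e => hxy (Subtype.ext e)
    have key : ∀ z : Ω, a g z = swap x y z := fun z => by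
      rw [swap_apply_def]
      split_ifs with c1 c2
      · rw [c1, e1]
      · rw [c2, e2]
      · exact e3 z z.2 (fun e => c1 (Subtype.ext e)) fun e => c2 (Subtype.ext e)
    exact ⟨⟨g, (mN g).2 fun z hz => key ⟨z, hz⟩ ▸ Subtype.prop _⟩,
      Equiv.ext fun z => Subtype.ext ((hρ _ z).trans (key z))⟩
  have hTN : T ≤ MulAction.stabilizer G Ω := fun t ht => (mN t).2 (hTΩ t ht)
  have hP := (sylIn_top (hT.mono hTN le_top).toSylow).map' ρ
  rw [hs] at hP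
  obtain ⟨m, hm1, hm2⟩ := ho
  have it : ∀ k (x : Ω), ((hσ.restrict σ Ω Ω)^[k] x : X) = σ^[k] x := fun k x => by
    rw [Set.MapsTo.iterate_restrict]; rfl
  have hinj : Function.Injective (hσ.restrict σ Ω Ω) := by
    obtain ⟨k, rfl⟩ := hm1
    exact Function.LeftInverse.injective (g := (hσ.restrict σ Ω Ω)^[2 * k]) fun x =>
      Subtype.ext ((it (2 * k + 1) x).trans (hm2 x x.2))
  obtain ⟨σ', hσ'⟩ : ∃ σ' : Perm Ω, ⇑σ' = hσ.restrict σ Ω Ω :=
    ⟨Equiv.ofBijective _ (Finite.injective_iff_bijective.1 hinj), rfl⟩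
  have e := hΩ _ hP σ' (mem_normalizer_of_conj_mem (by
    rintro _ ⟨t, ht, rfl⟩
    obtain ⟨t', ht', e⟩ := hn t ht
    refine ⟨⟨t', hTN ht'⟩, ht', eq_mul_inv_of_mul_eq (Equiv.ext fun x => Subtype.ext ?_)⟩
    rw [Perm.mul_apply, Perm.mul_apply, hρ, hσ', Set.MapsTo.val_restrict_apply,
      Set.MapsTo.val_restrict_apply, hρ, e x x.2])) (hm1.of_dvd_nat (orderOf_dvd_of_pow_eq_one
      (Equiv.ext fun x => Subtype.ext (by rw [Perm.coe_pow, hσ', it, hm2 x x.2]; rfl))))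
  intro x hx
  have := congrFun hσ' ⟨x, hx⟩
  rw [e] at this
  exact (congrArg Subtype.val this).symm

theorem permOdd_aux (n : ℕ) : ∀ (Ω : Type u) [Finite Ω], Nat.card Ω = n → PermOdd Ω := by
  induction n using Nat.strong_induction_on with
  | _ n ih =>
  intro Ω _ hn P hP σ hσ ho
  haveI := Fintype.ofFinite Ω
  haveI := Fact.mk Nat.prime_two
  have k1 : ∀ a b d, a ≠ b → a ≠ d → swap a b ∈ P → swap a d ∈ P → b = d := by
    intro a b d h1 h2 h3 h4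
    by_contra h
    obtain ⟨k, hk⟩ := isPGroup_subgroup_iff.1 hP.isPGroup _ (P.mul_mem h3 h4)
    have := orderOf_dvd_of_pow_eq_one hk
    rw [(Perm.isThreeCycle_swap_mul_swap_same h1 h2 h).orderOf] at this
    exact absurd (Nat.prime_three.dvd_of_dvd_pow this) (by norm_num)
  have k2 : ∀ g ∈ normalizer (P : Set (Perm Ω)), ∀ x y, swap (g x) (g y) ∈ P ↔ swap x y ∈ P :=
    fun g hg x y => by rw [swap_apply_apply, ← mem_normalizer_iff.1 hg]
  have k3 : ∀ g ∈ normalizer (P : Set (Perm Ω)), ∀ x, (∀ y, x ≠ y → swap x y ∉ P) →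
      ∀ y, g x ≠ y → swap (g x) y ∉ P := fun g hg x hx y hy => by
    obtain ⟨y, rfl⟩ := g.surjective y
    rw [k2 g hg]
    exact hx y fun e => hy (e ▸ rfl)
  have k4 : ∀ x y, (∀ z, x ≠ z → swap x z ∉ P) → (∀ z, y ≠ z → swap y z ∉ P) → x = y :=
    fun x y hx hy => by
      by_contra hxy
      have mU : ∀ g : Perm Ω, g ∈ MulAction.stabilizer (Perm Ω) {x | ∀ z, x ≠ z → swap x z ∉ P} ↔
          _ := fun g => MulAction.mem_stabilizer_set' (Set.toFinite _)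
      obtain ⟨g, hg, e⟩ := (hP.mono (fun g hg => (mU g).2 fun x => k3 g (le_normalizer hg) x)
        le_top).exists_conj_mem (x := swap x y) ((mU _).2 fun z hz => by
          rw [Perm.smul_def, swap_apply_def]
          split_ifs
          exacts [hy, hx, hz]) (k := 1) (by simp [sq])
      exact (mU g).1 hg hx (g y) (g.injective.ne hxy) (swap_apply_apply g x y ▸ e)
  have k5 : ∀ τ ∈ {τ | τ ∈ P ∧ τ.IsSwap}, σ * τ * σ⁻¹ = τ := by
    intro τ₀ hτ₀
    choose f f' hf hf' using fun τ : {τ | τ ∈ P ∧ τ.IsSwap} => τ.2.2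
    have hfP : ∀ τ, swap (f τ) (f' τ) ∈ P := fun τ => hf' τ ▸ τ.2.1
    have hlt : Nat.card {τ | τ ∈ P ∧ τ.IsSwap} < n := by
      rw [← hn, Nat.card_eq_fintype_card, Nat.card_eq_fintype_card]
      refine Fintype.card_lt_of_injective_of_notMem f (fun τ τ' e => Subtype.ext ?_)
        (b := f' ⟨τ₀, hτ₀⟩) ?_
      · rw [hf' τ, hf' τ', k1 _ _ _ (hf τ) (e ▸ hf τ') (hfP τ) (e ▸ hfP τ'), e]
      · rintro ⟨τ, e⟩
        have e1 := k1 _ _ _ (hf τ) (e ▸ (hf ⟨τ₀, hτ₀⟩).symm) (hfP τ)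
          (by rw [e, swap_comm]; exact hfP _)
        have e2 : τ = ⟨τ₀, hτ₀⟩ := Subtype.ext (by rw [hf' τ, hf' ⟨τ₀, hτ₀⟩, e, e1, swap_comm])
        exact hf τ (by rw [e, e2])
    have cm : ∀ g ∈ normalizer (P : Set (Perm Ω)), ∀ τ ∈ {τ | τ ∈ P ∧ τ.IsSwap},
        g * τ * g⁻¹ ∈ {τ | τ ∈ P ∧ τ.IsSwap} := by
      rintro g hg _ ⟨h, x, y, hxy, rfl⟩
      exact ⟨conj_mem_of_mem_normalizer hg h, g x, g y, g.injective.ne hxy,
        (swap_apply_apply g x y).symm⟩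
    refine (ih _ hlt _ rfl).act (fun g τ => g * τ * g⁻¹) (fun _ => by simp) (fun _ _ _ => by group)
      hP (fun t ht => cm t (le_normalizer ht)) ?_ (σ := fun τ => σ * τ * σ⁻¹) (cm σ hσ)
      ⟨_, ho, fun τ _ => by rw [H2.iterate_conj, pow_orderOf_eq_one]; simp⟩
      (fun t ht => ⟨σ * t * σ⁻¹, conj_mem_of_mem_normalizer hσ ht, fun _ _ => by group⟩) τ₀ hτ₀
    have dj : ∀ a b c d, a ≠ b → c ≠ d → swap a b ∈ P → swap c d ∈ P → swap a b ≠ swap c d →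
        a ≠ c := fun a b c d h1 h2 h3 h4 h5 e => by
      subst e
      exact h5 (by rw [k1 _ _ _ h1 h2 h3 h4])
    have dj' : ∀ a b c d, a ≠ b → c ≠ d → swap a b ∈ P → swap c d ∈ P → swap a b ≠ swap c d →
        a ≠ c ∧ a ≠ d ∧ b ≠ c ∧ b ≠ d := fun a b c d h1 h2 h3 h4 h5 =>
      ⟨dj a b c d h1 h2 h3 h4 h5, dj a b d c h1 h2.symm h3 (swap_comm c d ▸ h4) (swap_comm c d ▸ h5),
        dj b a c d h1.symm h2 (swap_comm a b ▸ h3) h4 (swap_comm a b ▸ h5),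
        dj b a d c h1.symm h2.symm (swap_comm a b ▸ h3) (swap_comm c d ▸ h4)
          (swap_comm a b ▸ swap_comm c d ▸ h5)⟩
    rintro _ ⟨h1, a, b, hab, rfl⟩ _ ⟨h2, c, d, hcd, rfl⟩ hne
    obtain ⟨e1, e2, e3, e4⟩ := dj' a b c d hab hcd h1 h2 hne
    refine ⟨swap a c * swap b d, ?_, ?_, ?_⟩
    · simp only [← swap_apply_apply, Perm.mul_apply, swap_apply_left,
        swap_apply_of_ne_of_ne hab e2, swap_apply_of_ne_of_ne e2.symm hcd.symm]
    · simp only [← swap_apply_apply, Perm.mul_apply, swap_apply_right,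
        swap_apply_of_ne_of_ne e3.symm hcd, swap_apply_of_ne_of_ne hab.symm e3]
    · rintro _ ⟨h3, x, y, hxy, rfl⟩ n1 n2
      obtain ⟨a1, a2, a3, a4⟩ := dj' x y a b hxy hab h3 h1 n1
      obtain ⟨b1, b2, b3, b4⟩ := dj' x y c d hxy hcd h3 h2 n2
      simp only [← swap_apply_apply, Perm.mul_apply, swap_apply_of_ne_of_ne a2 b2,
        swap_apply_of_ne_of_ne a1 b1, swap_apply_of_ne_of_ne a4 b4, swap_apply_of_ne_of_ne a3 b3]
  have k6 : σ ^ 2 = 1 := Equiv.ext fun x => by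
    rw [sq, Perm.mul_apply, Perm.one_apply]
    by_cases hx : ∀ y, x ≠ y → swap x y ∉ P
    · rw [k4 _ _ (k3 σ hσ x hx) hx, k4 _ _ (k3 σ hσ x hx) hx]
    push Not at hx
    obtain ⟨y, hxy, hy⟩ := hx
    have e := k5 _ ⟨hy, x, y, hxy, rfl⟩
    rw [← swap_apply_apply] at e
    have e1 := DFunLike.congr_fun e (σ x)
    rw [swap_apply_left, swap_apply_def] at e1
    split_ifs at e1 with c1 c2
    · rw [c1, c1]
    · rw [c2, e1]
    · exact absurd (σ.injective e1).symm hxy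
  exact orderOf_eq_one_iff.1 (((Nat.dvd_prime Nat.prime_two).1
    (orderOf_dvd_of_pow_eq_one k6)).resolve_right fun e => by rw [e] at ho; norm_num at ho)

theorem permOdd (Ω : Type*) [Finite Ω] : PermOdd Ω := permOdd_aux _ Ω rfl

end Cfsg.Agent.H4
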