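import Cfsg.Agent.Lib.H4.LinO
import Cfsg.Agent.Lib.H4.PermOdd

/-!
A fusion preserving automorphism of odd order of a Sylow 2-subgroup of `PSL_n(q)`, `q` odd, is
trivial (`q ≡ ±1 mod 8` if `n = 2`).
-/

set_option autoImplicit false
set_option linter.unusedSectionVars false

namespace Cfsg.Agent.H4

open Matrix Subgroup H6 H2 Lin
open scoped MatrixGroups Classical

theorem Th.map {G G' : Type*} [Group G] [Group G'] {a b : G} (f : G →* G') (h : Th a b)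
    (h1 : f (a * a) ≠ 1) : Th (f a) (f b) := by
  obtain ⟨⟨g, e1, e2⟩, e3, -⟩ := h
  exact ⟨⟨f g, by simp [← e1], by simpa using congrArg f e2⟩, by simpa using congrArg f e3,
    by simpa using h1⟩

theorem Th.isPGroup {G : Type*} [Group G] [Finite G] {a b : G} (h : Th a b) :
    IsPGroup 2 (zpowers b ⊔ zpowers a : Subgroup G) := by
  have k : ∀ x : G, x * x * (x * x) = 1 → x ^ 2 ^ 2 = 1 := fun x e => by
    rw [show 2 ^ 2 = 2 * 2 from rfl, pow_mul, sq, sq, e]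
  refine isPGroup_sup_of_le_normalizer (isPGroup_zpowers (k b h.next.rel.2))
    (isPGroup_zpowers (k a h.rel.2)) (zpowers_le.2 (mem_normalizer_of_cj_le ?_))
  rw [cj_zpowers, show b * a * b⁻¹ = b * a * b * (b * b)⁻¹ by group, h.2.1, h.rel.1, zpowers_le]
  exact mul_mem (mem_zpowers a) (inv_mem (mul_mem (mem_zpowers a) (mem_zpowers a)))

variable {n F : Type*} [Fintype n] [DecidableEq n] [Field F] [Fintype F]
variable {e e' f m m' : Matrix n n F} {x : SpecialLinearGroup n F}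
  {a b a' b' c t : ProjectiveSpecialLinearGroup n F}
  {T : Subgroup (ProjectiveSpecialLinearGroup n F)}
  {φ : ProjectiveSpecialLinearGroup n F → ProjectiveSpecialLinearGroup n F}

theorem exists_th_SL2 (h2 : (2 : F) ≠ 0) : ∃ c u : SL(2, F), Th c u ∧ c * c = -1 := by
  obtain ⟨c, u, hc, hu, h⟩ := exists_q8_SL2 (F := F) (FiniteField.odd_card_of_char_ne_two fun e =>
    h2 (by simpa [e] using ringChar.Nat.cast_ringChar (R := F)))
  have hc' : c.1 * c.1 = -1 := congrArg Subtype.val hc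
  have hu' : u.1 * u.1 = -1 := congrArg Subtype.val hu
  have h' : u.1 * c.1 = -(c.1 * u.1) := congrArg Subtype.val h
  have e1 : ∀ x, c.1 * (c.1 * x) = -x := fun x => by rw [← mul_assoc, hc', neg_one_mul]
  have e2 : ∀ x, u.1 * (c.1 * x) = -(c.1 * (u.1 * x)) := fun x => by
    rw [← mul_assoc, h', neg_mul, mul_assoc]
  have hd := congrArg det (omM_mul h2 hc' hu' h')
  rw [det_mul, det_omM h2 c.2 u.2 hc' hu' h', one_mul, det_one] at hd
  obtain ⟨g, hg⟩ : ∃ g : SL(2, F), g.1 = omM' c.1 u.1 := ⟨⟨_, hd⟩, rfl⟩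
  refine ⟨c, u, ⟨⟨g, mul_inv_eq_of_eq_mul (Subtype.ext ?_),
    mul_inv_eq_of_eq_mul (Subtype.ext ?_)⟩, by rw [h]; simp [mul_assoc, hu], fun e =>
      neg_one_ne_one_mat h2 (congrArg Subtype.val (hc.symm.trans e))⟩, hc⟩ <;>
  · simp only [sl_mul, hg, omM', smul_mul_assoc, mul_smul_comm, sub_mul, mul_sub, neg_mul, mul_neg,
      one_mul, mul_one, mul_assoc, hc', hu', h', e1, e2, neg_neg]
    congr 1; abel

/-- the frame attached to `T` -/
noncomputable def Frm (T : Subgroup (ProjectiveSpecialLinearGroup n F)) : Finset (Matrix n n F) :=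
  Finset.univ.filter fun e => ∃ a ∈ T, ∃ b ∈ T, Fund e a b

theorem mem_Frm : e ∈ Frm T ↔ ∃ a ∈ T, ∃ b ∈ T, Fund e a b := by simp [Frm]

theorem smul_mem_Frm (ht : t ∈ T) (he : e ∈ Frm T) : t • e ∈ Frm T := by
  obtain ⟨a, ha, b, hb, h⟩ := mem_Frm.1 he
  exact mem_Frm.2 ⟨_, mul_mem (mul_mem ht ha) (inv_mem ht), _, mul_mem (mul_mem ht hb) (inv_mem ht),
    h.conj t⟩

theorem eq_of_Frm (h0 : m * (1 - ∑ e ∈ Frm T, e) = m' * (1 - ∑ e ∈ Frm T, e))
    (h : ∀ e ∈ Frm T, m * e = m' * e) : m = m' := by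
  rwa [mul_sub, mul_sub, Finset.mul_sum, Finset.mul_sum, Finset.sum_congr rfl h, sub_left_inj,
    mul_one, mul_one] at h0

variable (hn : 2 < Fintype.card n) (h2 : (2 : F) ≠ 0)
include hn h2

theorem Blk.exists_fund (D : Blk (Fin 2) n F) : ∃ a b, Fund D.e a b := by
  obtain ⟨c, u, h, hc⟩ := exists_th_SL2 h2
  refine ⟨_, _, ⟨D, rfl⟩, h.map (pr.comp D.embSL) fun e => h.2.2 ?_, ⟨_, D.embSL_mem c, rfl⟩,
    ⟨_, D.embSL_mem u, rfl⟩⟩
  exact (map_eq_one_iff _ D.embSL_injective).1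
    (pr_inj (D.one_sub_ne (by simpa using hn)) (D.embSL_mem _) (one_mem _) e)

variable (hT : SylIn 2 T ⊤)
include hT

theorem Frm_orth (he : e ∈ Frm T) (he' : e' ∈ Frm T) (h : e ≠ e') : e * e' = 0 := by
  obtain ⟨a, ha, b, hb, h1⟩ := mem_Frm.1 he
  obtain ⟨a', ha', b', hb', h1'⟩ := mem_Frm.1 he'
  exact ((h1.orth hn h2 hT.isPGroup h1' ha hb ha' hb').resolve_left h).1

theorem Frm_res (he : e ∈ Frm T) :
    (1 - ∑ e ∈ Frm T, e) * e = 0 ∧ e * (1 - ∑ e ∈ Frm T, e) = 0 := by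
  obtain ⟨a, -, b, -, h1⟩ := mem_Frm.1 he
  rw [sub_mul, mul_sub, Finset.sum_mul, Finset.mul_sum,
    Finset.sum_eq_single_of_mem e he fun e' he' h => Frm_orth hn h2 hT he' he h,
    Finset.sum_eq_single_of_mem e he fun e' he' h => Frm_orth hn h2 hT he he' h.symm, h1.idem]
  simp

theorem Frm_idem : (1 - ∑ e ∈ Frm T, e) * (1 - ∑ e ∈ Frm T, e) = 1 - ∑ e ∈ Frm T, e := by
  rw [mul_sub, Finset.mul_sum, Finset.sum_eq_zero fun e he => (Frm_res hn h2 hT he).1]; simp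

theorem Frm_scalar (h : ∀ e ∈ Frm T, m * e = e * m) :
    ∃ c : F, m * (1 - ∑ e ∈ Frm T, e) = c • (1 - ∑ e ∈ Frm T, e) := by
  haveI := Fact.mk Nat.prime_two
  by_contra hc
  push Not at hc
  obtain ⟨D, d1, d2, -⟩ := exists_blk_two (Frm_idem hn h2 hT) (by
    rw [mul_sub, sub_mul, Finset.mul_sum, Finset.sum_mul, Finset.sum_congr rfl h]; simp) hc
  obtain ⟨a, b, h3⟩ := D.exists_fund hn h2
  have k : (SLe (1 - D.e)).map pr ≤ MulAction.stabilizer _ (1 - ∑ e ∈ Frm T, e) := by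
    rintro _ ⟨A, hA, rfl⟩
    obtain ⟨g, rfl⟩ := D.exists_embSL hA
    exact pr_smul_eq_iff.2 (D.emb_comm (c := 1) (by rwa [one_smul]) (by rwa [one_smul]) _)
  obtain ⟨g, hg, h4⟩ := (hT.mono (K := MulAction.stabilizer _ (1 - ∑ e ∈ Frm T, e)) (fun t ht => by
    rw [MulAction.mem_stabilizer_iff, smul_sub, smul_one, Finset.smul_sum]
    congr 1
    exact Finset.sum_nbij' (t • ·) (t⁻¹ • ·) (fun e he => smul_mem_Frm ht he)
      (fun e he => smul_mem_Frm (inv_mem ht) he) (by simp) (by simp) (by simp)) le_top).exists_cj_le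
    h3.2.1.isPGroup (sup_le (zpowers_le.2 (k h3.2.2.2)) (zpowers_le.2 (k h3.2.2.1)))
  have h5 := (Frm_res hn h2 hT (mem_Frm.2 ⟨_, cj_le_iff.1 h4 a (mem_sup_right (mem_zpowers a)), _,
    cj_le_iff.1 h4 b (mem_sup_left (mem_zpowers b)), h3.conj g⟩)).1
  rw [← MulAction.mem_stabilizer_iff.1 hg, ← smul_mul', Blk.e, ← Matrix.mul_assoc, d1] at h5
  exact (h3.conj g).ne h5

theorem exists_nonsq (D : Blk (Fin 2) n F) (he : D.e ∈ Frm T) : ∃ x : SpecialLinearGroup n F,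
    pr x ∈ T ∧ x.1 * D.e = D.e * x.1 ∧ ¬ IsSquare (D.res x.1).det := by
  haveI := Fact.mk Nat.prime_two
  obtain ⟨ν, hν⟩ := FiniteField.exists_nonsquare (F := F) fun e =>
    h2 (by simpa [e] using ringChar.Nat.cast_ringChar (R := F))
  have hν0 : ν ≠ 0 := fun e => hν (e ▸ IsSquare.zero)
  obtain ⟨p, p1, p2, p3, p4⟩ : ∃ p : Matrix n n F, p * p = p ∧ p ≠ 0 ∧ D.e * p = 0 ∧
      ∀ z ∈ Frm T, ∃ c : F, z * p = c • p ∧ p * z = c • p := by
    by_cases h : ∃ p ∈ Frm T, D.e ≠ p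
    · obtain ⟨p, hp, h⟩ := h
      obtain ⟨a, -, b, -, h1⟩ := mem_Frm.1 hp
      refine ⟨p, h1.idem, h1.ne, Frm_orth hn h2 hT he hp h, fun z hz => ?_⟩
      by_cases e : z = p
      · exact ⟨1, by simp [e, h1.idem]⟩
      · exact ⟨0, by simp [Frm_orth hn h2 hT hz hp e, Frm_orth hn h2 hT hp hz (Ne.symm e)]⟩
    · push Not at h
      exact ⟨1 - D.e, by simp [mul_sub, sub_mul, D.e_e], D.one_sub_ne (by simpa using hn),
        by simp [mul_sub, D.e_e], fun z hz => ⟨0, by simp [← h z hz, mul_sub, sub_mul, D.e_e]⟩⟩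
  obtain ⟨E, e1, e2⟩ := exists_blk_one p1 p2
  obtain ⟨y, hy⟩ : ∃ y : SpecialLinearGroup n F, y.1 = D.emb !![ν, 0; 0, 1] * E.emb !![ν⁻¹] :=
    ⟨⟨_, by rw [det_mul, D.det_emb, E.det_emb]; simp [hν0]⟩, rfl⟩
  have cD : ∀ z ∈ Frm T, ∀ g, D.emb g * z = z * D.emb g := fun z hz g => by
    by_cases e : z = D.e
    · exact D.emb_comm (c := 1) (by rw [e, D.e_X, one_smul]) (by rw [e, D.Φ_e, one_smul]) g
    · exact D.emb_comm (c := 0)
        (by rw [← D.e_X, ← Matrix.mul_assoc, Frm_orth hn h2 hT hz he e]; simp)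
        (by rw [← D.Φ_e, Matrix.mul_assoc, Frm_orth hn h2 hT he hz (Ne.symm e)]; simp) g
  have mN : ∀ g : SpecialLinearGroup n F, pr g ∈ fixingSubgroup _ (Frm T : Set (Matrix n n F)) ↔
      ∀ z ∈ Frm T, g.1 * z = z * g.1 := fun g => by
    simp only [mem_fixingSubgroup_iff, pr_smul_eq_iff, Finset.mem_coe]
  have hyN := (mN y).2 fun z hz => by
    obtain ⟨c, c1, c2⟩ := p4 z hz
    rw [hy, mul_assoc, E.emb_comm (c := c) (by rw [← e1, ← Matrix.mul_assoc, c1, Matrix.smul_mul])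
      (by rw [← e2, Matrix.mul_assoc, c2, Matrix.mul_smul]), ← mul_assoc, cD z hz, mul_assoc]
  have dy : (D.res y.1).det = ν := by
    have : D.Φ * E.X = 0 := by
      rw [← D.Φ_e, ← e1, Matrix.mul_assoc, ← Matrix.mul_assoc D.e, p3]; simp
    have h3 : D.res (E.emb !![ν⁻¹]) = 1 := by
      simp [Blk.res, Blk.emb, Blk.e, Matrix.mul_add, Matrix.mul_sub, ← Matrix.mul_assoc, this, D.h]
    rw [hy, D.res_mul (cD _ he _), D.res_emb, h3]; simp
  obtain ⟨k, _, ⟨j, rfl⟩, hk⟩ := Nat.exists_eq_two_pow_mul_odd (orderOf_pos (pr y)).ne'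
  have hN : T ≤ normalizer (fixingSubgroup (ProjectiveSpecialLinearGroup n F)
      (Frm T : Set (Matrix n n F)) : Set (ProjectiveSpecialLinearGroup n F)) := by
    refine fun t ht => mem_normalizer_of_conj_mem fun g hg => ?_
    rw [mem_fixingSubgroup_iff] at hg ⊢
    intro z hz
    rw [mul_smul, mul_smul, hg _ (smul_mem_Frm (inv_mem ht) hz), smul_inv_smul]
  obtain ⟨g, hg, h3⟩ := ((hT.mono hN le_top).inf_of_normal le_normalizer le_rfl).exists_conj_mem (pow_mem hyN (2 * j + 1)) (k := k)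
    (by rw [← pow_mul, mul_comm, ← hk, pow_orderOf_eq_one])
  obtain ⟨g, rfl⟩ := pr_surj g
  rw [← map_pow, ← map_inv, ← map_mul, ← map_mul] at h3
  refine ⟨_, h3.1, (mN _).1 h3.2 _ he, fun ⟨r, hr⟩ => hν ⟨r / ν ^ j, ?_⟩⟩
  have d1 : ∀ i, (D.res (y ^ i).1).det = ν ^ i := fun i => by
    induction i with
    | zero => simp [Blk.res, D.h]
    | succ i ih => rw [pow_succ', sl_mul, D.res_mul ((mN y).1 hyN _ he), det_mul, ih, dy, pow_succ']
  have c1 := (mN g).1 hg _ he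
  have d2 := congrArg det (D.res_mul c1 g⁻¹.1)
  rw [sl_mul_inv, Blk.res, Matrix.mul_one, D.h, det_one, det_mul] at d2
  rw [mul_assoc, sl_mul, sl_mul, D.res_mul c1, D.res_mul ((mN _).1 (map_pow pr y _ ▸
    pow_mem hyN _) _ he), det_mul, det_mul, d1, mul_left_comm, ← d2, mul_one] at hr
  field_simp
  linear_combination hr

variable (h : FA T φ)
include h

theorem FA.fund_fix : (∀ e, ∀ a ∈ T, ∀ b ∈ T, Fund e a b → Fund e (φ a) (φ b)) ∧
    ∀ e ∈ Frm T, ∀ t ∈ T, t • e = e → φ t • e = e := by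
  have hp := hT.isPGroup
  have k : ∀ e, ∃ e', e ∈ Frm T → ∀ a ∈ T, ∀ b ∈ T, Fund e a b → Fund e' (φ a) (φ b) := fun e => by
    by_cases he : e ∈ Frm T
    · obtain ⟨a, ha, b, hb, h1⟩ := mem_Frm.1 he
      obtain ⟨e', h3⟩ := (h.th ha hb h1.2.1).fund hn h2 (h.pp hT ha (h1.pp hn h2))
      refine ⟨e', fun _ a' ha' b' hb' h1' => ?_⟩
      obtain ⟨e'', h3'⟩ := (h.th ha' hb' h1'.2.1).fund hn h2 (h.pp hT ha' (h1'.pp hn h2))
      rwa [h3.eq_of_not_comm hn h2 hp h3' (h.mem a ha) (h.mem b hb) (h.mem _ ha') (h.mem _ hb')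
        fun e1 e2 => h1.not_comm hn h1'
          (h.inj (mul_mem ha' ha) (mul_mem ha ha') (by rwa [h.mul _ ha' _ ha, h.mul _ ha _ ha']))
          (h.inj (mul_mem ha' hb) (mul_mem hb ha') (by rwa [h.mul _ ha' _ hb, h.mul _ hb _ ha']))]
    · exact ⟨e, fun h => absurd h he⟩
  choose σ hσ using k
  have k1 : ∀ e ∈ Frm T, σ e ∈ Frm T := fun e he => by
    obtain ⟨a, ha, b, hb, h1⟩ := mem_Frm.1 he
    exact mem_Frm.2 ⟨_, h.mem a ha, _, h.mem b hb, hσ e he a ha b hb h1⟩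
  have k2 : ∀ t ∈ T, ∀ e ∈ Frm T, σ (t • e) = φ t • σ e := fun t ht e he => by
    obtain ⟨a, ha, b, hb, h1⟩ := mem_Frm.1 he
    have c : ∀ a ∈ T, t * a * t⁻¹ ∈ T ∧ φ (t * a * t⁻¹) = φ t * φ a * (φ t)⁻¹ := fun a ha =>
      ⟨mul_mem (mul_mem ht ha) (inv_mem ht), by
        rw [h.mul _ (mul_mem ht ha) _ (inv_mem ht), h.mul _ ht _ ha, h.map_inv ht]⟩
    refine (hσ _ (smul_mem_Frm ht he) _ (c a ha).1 _ (c b hb).1 (h1.conj t)).uniq hn h2 hp ?_
      (h.mem _ (c a ha).1) (h.mem _ (c b hb).1)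
    rw [(c a ha).2, (c b hb).2]
    exact (hσ e he a ha b hb h1).conj _
  have k3 := (permOdd (Frm T : Set (Matrix n n F))).act (fun g m => g • m) (one_smul _) mul_smul hT
    (fun t ht e he => smul_mem_Frm ht he) (fun e he e' he' hne => by
      obtain ⟨-, -, -, -, ⟨D, rfl⟩, -⟩ := mem_Frm.1 he
      obtain ⟨-, -, -, -, ⟨D', rfl⟩, -⟩ := mem_Frm.1 he'
      obtain ⟨w, w1, w2, w3⟩ := D.exists_swap D' (Frm_orth hn h2 hT he he' hne)
        (Frm_orth hn h2 hT he' he hne.symm)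
      refine ⟨pr w, pr_smul_eq_iff.2 w1, pr_smul_eq_iff.2 w2, fun z hz z1 z2 => ?_⟩
      have := SLe_le (f := z) (by
        rw [add_mul, Frm_orth hn h2 hT he hz z1.symm, Frm_orth hn h2 hT he' hz z2.symm, add_zero])
        (by rw [mul_add, Frm_orth hn h2 hT hz he z1, Frm_orth hn h2 hT hz he' z2, add_zero]) w3
      exact pr_smul_eq_iff.2 (this.1.trans this.2.symm)) (σ := σ) k1 (by
      obtain ⟨m, hm, hm'⟩ := h.odd
      refine ⟨m, hm, fun e he => ?_⟩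
      obtain ⟨a, ha, b, hb, h1⟩ := mem_Frm.1 he
      have : ∀ i, Fund (σ^[i] e) (φ^[i] a) (φ^[i] b) := fun i => by
        induction i with
        | zero => exact h1
        | succ i ih =>
          have ha' := OddAut.iterate_mem h.mem i ha
          have hb' := OddAut.iterate_mem h.mem i hb
          simp only [Function.iterate_succ_apply']
          exact hσ _ (mem_Frm.2 ⟨_, ha', _, hb', ih⟩) _ ha' _ hb' ih
      have h3 := this m
      rw [hm' a ha, hm' b hb] at h3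
      exact h3.uniq hn h2 hp h1 ha hb) fun t ht => ⟨φ t, h.mem t ht, k2 t ht⟩
  refine ⟨fun e a ha b hb h1 => ?_, fun e he t ht e1 => ?_⟩
  · have he := mem_Frm.2 ⟨a, ha, b, hb, h1⟩
    exact k3 e he ▸ hσ e he a ha b hb h1
  · rw [← k3 e he, ← k2 t ht e he, e1]

theorem FA.fix_fund (ha : a ∈ T) (hb : b ∈ T) (h1 : Fund e a b) : φ a = a := by
  obtain ⟨k1, k2⟩ := h.fund_fix hn h2 hT
  obtain ⟨D, A, -, rfl, -, -, rfl, -, hz, -⟩ := h1.lift hn h2
  have he := mem_Frm.2 ⟨_, ha, b, hb, h1⟩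
  obtain ⟨x, x1, x2, x3⟩ := exists_nonsq hn h2 hT D he
  obtain ⟨K, hK⟩ : ∃ K, K = closure {a | a ∈ T ∧ ∃ b ∈ T, Fund D.e a b} := ⟨_, rfl⟩
  have m1 : ∀ a ∈ T, ∀ b ∈ T, Fund D.e a b → a ∈ K := fun a ha b hb h =>
    hK ▸ subset_closure ⟨ha, b, hb, h⟩
  have m2 : K ≤ (SLe (1 - D.e)).map pr := hK ▸ (closure_le _).2 fun a ⟨_, b, _, h⟩ => h.2.2.1
  have m3 : K ≤ T := hK ▸ (closure_le _).2 fun a h => h.1
  have hA := m1 _ ha b hb h1
  refine fix_of_quat (X := T ⊓ MulAction.stabilizer _ D.e) (z := pr A * pr A)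
    (h.mono inf_le_left fun t ht => ⟨h.mem t ht.1, k2 _ he t ht.1 ht.2⟩)
    (hT.isPGroup.to_le inf_le_left) (fun y hy => ⟨m3 hy, smul_eq_of_mem (m2 hy)⟩)
    (fun t ht => mem_normalizer_of_cj_le ?_) ?_ (mul_mem hA hA) h1.2.1.2.2 h1.2.1.rel.2
    (fun y hy e => by simpa [← hz] using D.sq_one' hn h2 (m2 hy) e)
    (fun y hy a ha b hb => D.sq_of_comm hn (m2 hy) (m2 ha) (m2 hb)) hA
    (m1 b hb _ (mul_mem ha hb) h1.next) h1.2.1.not_comm ⟨x1, pr_smul_eq_iff.2 x2⟩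
    (fun d hd a ha b hb e1 e2 => ?_) _ hA
  · nth_rewrite 1 [hK]
    rw [cj, MonoidHom.map_closure, closure_le]
    rintro _ ⟨a, ⟨ha, b, hb, h3⟩, rfl⟩
    have h4 := h3.conj t
    rw [MulAction.mem_stabilizer_iff.1 ht.2] at h4
    exact m1 _ (mul_mem (mul_mem ht.1 ha) (inv_mem ht.1)) _
      (mul_mem (mul_mem ht.1 hb) (inv_mem ht.1)) h4
  · intro y hy
    rw [hK] at hy
    induction hy using closure_induction with
    | mem a ha =>
      obtain ⟨ha, b, hb, h3⟩ := ha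
      exact m1 _ (h.mem a ha) _ (h.mem b hb) (k1 _ a ha b hb h3)
    | one => rw [h.map_one]; exact one_mem _
    | mul a b ha hb h3 h4 => rw [h.mul a (m3 (hK ▸ ha)) b (m3 (hK ▸ hb))]; exact mul_mem h3 h4
    | inv a ha h3 => rw [h.map_inv (m3 (hK ▸ ha))]; exact inv_mem h3
  · by_contra hab
    replace hd := m2 hd
    obtain ⟨d, hd, rfl⟩ := hd
    rw [← map_mul] at e1 e2
    obtain ⟨c, hc⟩ := D.scalar' hn (m2 ha) (m2 hb) hab (by
      rw [sl_mul, mul_assoc, SLe_comm hd, ← mul_assoc, x2, mul_assoc]) e1 e2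
    obtain ⟨g, rfl⟩ := D.exists_embSL hd
    have := congrArg det (D.res_of_mul_e hc)
    rw [sl_mul, D.res_mul x2, D.coe_embSL, D.res_emb, det_mul, g.2, mul_one, det_smul, det_one,
      mul_one, Fintype.card_fin, sq] at this
    exact x3 ⟨c, this⟩

theorem FA.eq_of_three : ∀ x ∈ T, φ x = x := by
  refine fix_of_cent h.toOddAut hT.isPGroup fun C hC => ?_
  have k : ∀ x : SpecialLinearGroup n F, pr x ∈ C → (∀ e ∈ Frm T, ∃ c : F, x.1 * e = c • e) ∧
      ∃ c : F, x.1 * (1 - ∑ e ∈ Frm T, e) = c • (1 - ∑ e ∈ Frm T, e) := fun x hx => by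
    have k1 : ∀ e ∈ Frm T, x.1 * e = e * x.1 ∧ ∃ c : F, x.1 * e = c • e := fun e he => by
      obtain ⟨a, ha, b, hb, h1⟩ := mem_Frm.1 he
      have c1 := ((hC _).1 hx).2 a ha (h.fix_fund hn h2 hT ha hb h1)
      have c2 := ((hC _).1 hx).2 b hb (h.fix_fund hn h2 hT hb (mul_mem ha hb) h1.next)
      have h3 := h1.conj (pr x)
      rw [c1, c2, mul_inv_cancel_right, mul_inv_cancel_right] at h3
      have h4 := pr_smul_eq_iff.1 (h3.uniq hn h2 hT.isPGroup h1 ha hb)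
      obtain ⟨D, rfl⟩ := h1.1
      exact ⟨h4, D.scalar' hn h1.2.2.1 h1.2.2.2 h1.2.1.not_comm h4 c1 c2⟩
    exact ⟨fun e he => (k1 e he).2, Frm_scalar hn h2 hT fun e he => (k1 e he).1⟩
  refine ⟨fun x hx y hy => ?_, fun x hx hx2 => ?_⟩
  · obtain ⟨x, rfl⟩ := pr_surj x
    obtain ⟨y, rfl⟩ := pr_surj y
    have k1 : ∀ p : Matrix n n F, (∃ c : F, x.1 * p = c • p) → (∃ c : F, y.1 * p = c • p) →
        x.1 * y.1 * p = y.1 * x.1 * p := by
      rintro p ⟨c, hc⟩ ⟨d, hd⟩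
      rw [mul_assoc, mul_assoc, hc, hd, mul_smul_comm, mul_smul_comm, hc, hd, smul_comm]
    rw [← map_mul, ← map_mul, show x * y = y * x from Subtype.ext (eq_of_Frm
      (k1 _ (k x hx).2 (k y hy).2) fun e he => k1 e ((k x hx).1 e he) ((k y hy).1 e he))]
  obtain ⟨x, rfl⟩ := pr_surj x
  obtain ⟨κ, hκ⟩ := pr_eq_iff.1 (show pr 1 = pr (x * x) by simp [hx2])
  have k1 : ∀ (p : Matrix n n F) (c : F), p ≠ 0 → x.1 * p = c • p → c * c = κ := fun p c hp hc =>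
    smul_left_injective F hp (by
      simp only
      rw [← smul_smul, ← hc, ← mul_smul_comm, ← hc, ← mul_assoc, ← sl_mul, hκ, sl_one,
        smul_mul_assoc, one_mul])
  obtain ⟨k2, c, hc⟩ := k x hx
  obtain ⟨c, hc, hc'⟩ : ∃ c : F, x.1 * (1 - ∑ e ∈ Frm T, e) = c • (1 - ∑ e ∈ Frm T, e) ∧
      c * c = κ := by
    by_cases h0 : 1 - ∑ e ∈ Frm T, e = 0
    · obtain ⟨e, he, -⟩ := Finset.exists_ne_zero_of_sum_ne_zero (s := Frm T) (f := fun e => e) (by
        have : Nonempty n := Fintype.card_pos_iff.1 (by omega)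
        rw [← sub_eq_zero.1 h0]; exact one_ne_zero)
      obtain ⟨c, hc⟩ := k2 e he
      obtain ⟨_, -, _, -, h1⟩ := mem_Frm.1 he
      exact ⟨c, by simp [h0], k1 e c h1.ne hc⟩
    · exact ⟨c, hc, k1 _ c h0 hc⟩
  have k3 : ∀ S ⊆ Frm T, ∃ z : SpecialLinearGroup n F, pr z ∈ T ∧ φ (pr z) = pr z ∧
      z.1 = zz (∑ e ∈ S, e) := fun S hS => by
    induction S using Finset.induction_on with
    | empty => exact ⟨1, by simp, by simp [h.map_one], by simp [zz, sl_one]⟩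
    | insert e S he ih =>
      obtain ⟨z, z1, z2, z3⟩ := ih ((Finset.subset_insert e S).trans hS)
      have he' := hS (Finset.mem_insert_self e S)
      obtain ⟨a, ha, b, hb, h1⟩ := mem_Frm.1 he'
      have h3 := h.fix_fund hn h2 hT ha hb h1
      obtain ⟨D, A, -, rfl, -, -, rfl, -, hz, -⟩ := h1.lift hn h2
      refine ⟨A * A * z, by simpa using mul_mem (mul_mem ha ha) z1, by
        rw [map_mul, map_mul, h.mul _ (mul_mem ha ha) _ z1, h.mul _ ha _ ha, h3, z2], ?_⟩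
      have : D.e * ∑ e ∈ S, e = 0 := by
        rw [Finset.mul_sum]
        exact Finset.sum_eq_zero fun e' h' => Frm_orth hn h2 hT he'
          (hS (Finset.mem_insert_of_mem h')) fun e1 => he (e1 ▸ h')
      rw [sl_mul, hz, D.coe_neg_one, z3, Finset.sum_insert he]
      simp only [zz, sub_mul, mul_sub, this, one_mul, mul_one]
      abel
  obtain ⟨z, -, z2, z3⟩ := k3 ((Frm T).filter fun e => x.1 * e = -c • e) (Finset.filter_subset _ _)
  rwa [← pr_eq_iff.2 ⟨c, eq_of_Frm (T := T) ?_ fun e he => ?_⟩]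
  · rw [hc, smul_mul_assoc, z3, zz, sub_mul, sub_mul, Finset.sum_mul,
      Finset.sum_eq_zero fun e he => (Frm_res hn h2 hT (Finset.mem_filter.1 he).1).2]
    simp
  · obtain ⟨d, hd⟩ := k2 e he
    obtain ⟨_, -, _, -, h1⟩ := mem_Frm.1 he
    rw [smul_mul_assoc, z3, zz, sub_mul, sub_mul, Finset.sum_mul, Finset.sum_filter,
      Finset.sum_eq_single_of_mem e he fun e' he' h => by rw [Frm_orth hn h2 hT he' he h, ite_self],
      h1.idem]
    split_ifs with h3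
    · rw [h3]; simp
    · rcases mul_self_eq_mul_self_iff.1 ((k1 e d h1.ne hd).trans hc'.symm) with rfl | rfl
      · simp [hd]
      · exact absurd hd h3

end Cfsg.Agent.H4
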