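import Cfsg.Agent.Lib.H4.LinT
import Cfsg.Agent.Lib.H6.FusTools
import Cfsg.Agent.Lib.Lead.Fitting
import Cfsg.Agent.Lib.Lead.CentSys

/-!
Normal subsystems of linear type in the 2-fusion system of a simple group.
-/

set_option autoImplicit false
set_option linter.unusedSectionVars false

namespace Cfsg.Agent.H4

open Cfsg Cfsg.FusionSystem Subgroup H6 H2 H7 H8

variable {G L : Type*} [Group G] [Finite G] [Group L] [Finite L] {S T : Subgroup G}
  {F : FusionSystem S} {E : FusionSystem T} {ι : T →* L}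

theorem eq_of_rigid (hE : E.IsInvariantIn F) (hι : E.IsRealizedBy ι)
    (hL : ∀ φ, FA ι.range φ → ∀ x ∈ ι.range, φ x = x) {α : MulAut T} (hα : α ∈ F.autGroup T)
    (ho : Odd (orderOf α)) : ∀ x ∈ T, equivFun α x = x := by
  obtain ⟨s, h⟩ := hι.exists_isoVia
  obtain ⟨a', -, h'⟩ := hE.exists_isoVia (isIso_of_mem_autGroup (Inv.le hE) hα)
  have k := (h.symm.trans h').trans h
  have e : ∀ y ∈ ι.range, equivFun (h.congrAut α) y = (homFun ι ∘ equivFun α ∘ s) y :=
    fun y hy => h.equivFun_congrAut α hy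
  have := hL (equivFun (h.congrAut α)) ⟨oddAut_equivFun (by rwa [MulEquiv.orderOf_eq]),
    fun a ha b hb g ha' hb' => by
      have h1 : (groupFusionSystem ι.range).IsMor (ι.range ⊓ cj g⁻¹ ι.range)
          fun x => g * x * g⁻¹ := groupFusionSystem_isMor.2
        ⟨inf_le_left, fun x hx => by simpa using mem_cj.1 hx.2, g, fun _ _ => rfl⟩
      obtain ⟨-, -, c, hc⟩ := groupFusionSystem_isMor.1 (k.mor _ _ h1)
      have h2 : ∀ a ∈ ι.range, g * a * g⁻¹ ∈ ι.range → c * equivFun (h.congrAut α) a * c⁻¹ =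
          equivFun (h.congrAut α) (g * a * g⁻¹) := fun a ha ha' => by
        have := hc _ (mem_img_of_mem _ (show a ∈ ι.range ⊓ cj g⁻¹ ι.range from
          ⟨ha, mem_cj.2 (by simpa using ha')⟩))
        rw [k.left a ha] at this
        rw [e a ha, e _ ha', this]
      exact ⟨c, h2 a ha ha', h2 b hb hb'⟩⟩
  intro x hx
  refine h.inj (equivFun_mem α hx) hx ?_
  rw [← h.equivFun_congrAut' α hx, this _ (h.mem x hx)]

theorem realized_of_rigid [IsSimpleGroup G] (hG : ¬ IsMulCommutative G) (hS : SylIn 2 S ⊤)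
    (hE : E.IsNormalIn (groupFusionSystem S) 2) (hC : Lead.CE E (groupFusionSystem S) 2 ≤ T)
    (hι : E.IsRealizedBy ι) (hL : ∀ φ, FA ι.range φ → ∀ x ∈ ι.range, φ x = x) :
    ∃ ι' : S →* L, (groupFusionSystem S).IsRealizedBy ι' ∧ ι'.range = ι.range := by
  haveI := Fact.mk Nat.prime_two
  obtain ⟨-, hF, hi⟩ := hE.1
  have hT := Inv.sc hi
  have h1 := hyp_le_of_above hF hS.isPGroup hT hT.le_normalizer le_rfl
    fun P hP _ _ hTP α hα ho => by
      obtain ⟨β, hβ, e⟩ := exists_res_autGroup hP.le hTP hα (autGroup_le_stabAut hT hP.le hα)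
      have := Lead.mem_modAut_CE_of_le hF hS.isPGroup hE hTP hP.le hα (mem_fixAut.2 fun x _ hx => by
        rw [e x hx, eq_of_rigid hi hι hL hβ
          (Nat.coprime_two_right.1 (coprime_of_res hTP e ho)) x hx]) ho
      exact mem_modAut.2 fun x hx => hC (mem_modAut.1 this x hx)
  rw [group_hyp_eq_top hS fun H h => by
    haveI := H.normal_of_index_eq_two h
    rcases IsSimpleGroup.eq_bot_or_eq_top_of_normal H inferInstance with rfl | rfl
    · rw [index_bot] at h
      haveI := isCyclic_of_prime_card h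
      exact hG inferInstance
    · simp at h] at h1
  obtain rfl : S = T := le_antisymm h1 hT.le
  have h2 := autGroup_eq_inn hF hS.isPGroup fun h => by
    obtain ⟨α, hα, ho, hne⟩ := h.exists_aut
    obtain ⟨g, hg, e⟩ := exists_ne_of_ne_one hne
    exact e (eq_of_rigid hi hι hL hα ho g hg)
  obtain rfl : E = groupFusionSystem S :=
    le_antisymm' hi.1 (hi.le_of_autGroup_le (h2 ▸ E.inn_le_autGroup le_rfl))
  exact ⟨ι, hι, rfl⟩

theorem realized_lin [IsSimpleGroup G] (hG : ¬ IsMulCommutative G) (S : Sylow 2 G) {n : ℕ}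
    (hn : 2 ≤ n) {K : Type*} [Field K] [Fintype K] (hq : Odd (Fintype.card K))
    (h2 : n = 2 → Fintype.card K % 8 = 1 ∨ Fintype.card K % 8 = 7)
    (hE : E.IsNormalIn (groupFusionSystem (S : Subgroup G)) 2)
    (hC : Lead.CE E (groupFusionSystem (S : Subgroup G)) 2 ≤ T)
    (hiso : ∃ ι : T →* Matrix.ProjectiveSpecialLinearGroup (Fin n) K, E.IsRealizedBy ι ∧
      ∃ T' : Sylow 2 (Matrix.ProjectiveSpecialLinearGroup (Fin n) K), (T' : Subgroup _) = ι.range) :
    ∃ ι : (S : Subgroup G) →* Matrix.ProjectiveSpecialLinearGroup (Fin n) K,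
      (groupFusionSystem (S : Subgroup G)).IsRealizedBy ι ∧
      ∃ T' : Sylow 2 (Matrix.ProjectiveSpecialLinearGroup (Fin n) K), (T' : Subgroup _) = ι.range := by
  obtain ⟨ι, hι, T', e⟩ := hiso
  obtain ⟨ι', h, e'⟩ := realized_of_rigid hG (sylIn_top S) hE hC hι
    fun φ hφ => hφ.eq_lin hn hq h2 (e ▸ sylIn_top T')
  exact ⟨ι', h, T', e.trans e'.symm⟩

end Cfsg.Agent.H4
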