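import Cfsg.Agent.Lib.H4.LinQ

/-!
Automorphisms of odd order of 2-groups: tools.
-/

set_option autoImplicit false
set_option linter.unusedSectionVars false

namespace Cfsg.Agent.H4

open Subgroup H6 H2
open scoped commutatorElement

variable {G : Type*} [Group G] [Finite G] {P Q X K Z T : Subgroup G} {φ : G → G} {a b z t : G}

theorem exists_lt_norm {p : ℕ} [Fact p.Prime] (hP : IsPGroup p P) (h : Q < P) :
    ∃ M, Q ≤ M ∧ M < P ∧ P ≤ normalizer (M : Set G) := by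
  obtain ⟨M, ⟨h1, h2⟩, h3⟩ := (Set.toFinite {M | Q ≤ M ∧ M < P}).exists_maximal ⟨Q, le_rfl, h⟩
  obtain ⟨x, hx, hx', hn⟩ := exists_mem_normalizer_not_mem hP h2
  have h4 : M ≤ P ⊓ normalizer (M : Set G) := le_inf h2.le le_normalizer
  refine ⟨M, h1, h2, inf_eq_left.1 ?_⟩
  by_contra h5
  exact hx' (h3 ⟨h1.trans h4, lt_of_le_of_ne inf_le_left h5⟩ h4 ⟨hx, hn⟩)

theorem exists_central_mod {p : ℕ} [Fact p.Prime] (hX : IsPGroup p X) (hK : K ≤ X)
    (hn : X ≤ normalizer (K : Set G)) (h : ¬ K ≤ Z) :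
    ∃ c ∈ K, c ∉ Z ∧ ∀ t ∈ X, c * t * c⁻¹ * t⁻¹ ∈ Z := by
  by_contra hc
  push Not at hc
  have k1 : ∀ i, (fun A => ⁅A, X⁆)^[i] K ≤ K ⊓ X.lowerCentralSeries i := fun i => by
    induction i with
    | zero => exact le_inf le_rfl hK
    | succ i ih =>
      rw [Function.iterate_succ_apply']
      refine le_inf (commutator_le.2 fun c hc t ht => ?_)
        (commutator_mono (ih.trans inf_le_right) le_rfl)
      rw [commutatorElement_def, mul_assoc, mul_assoc, ← mul_assoc t]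
      exact mul_mem (ih hc).1 (conj_mem_of_mem_normalizer (hn ht) (inv_mem (ih hc).1))
  have k2 : ∀ i, ¬ (fun A => ⁅A, X⁆)^[i] K ≤ Z := fun i => by
    induction i with
    | zero => exact h
    | succ i ih =>
      rw [Function.iterate_succ_apply', commutator_le]
      refine fun h' => ih fun c hc' => ?_
      by_contra h1
      obtain ⟨t, ht, h2⟩ := hc c (k1 i hc').1 h1
      exact h2 (h' c hc' t ht)
  obtain ⟨i, hi⟩ := X.isNilpotent_iff_lowerCentralSeries.1 hX.isNilpotent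
  exact k2 i (((k1 i).trans inf_le_right).trans (hi ▸ bot_le))

/-- the subgroup generated by an element of square one -/
def two (z : G) (hz : z * z = 1) : Subgroup G where
  carrier := {x | x = 1 ∨ x = z}
  mul_mem' := by rintro _ _ (rfl | rfl) (rfl | rfl) <;> simp [hz]
  one_mem' := Or.inl rfl
  inv_mem' := by rintro _ (rfl | rfl) <;> simp [inv_eq_of_mul_self hz]

theorem fix_of_quat (hφ : OddAut X φ) (hX : IsPGroup 2 X) (hK : K ≤ X)
    (hn : X ≤ normalizer (K : Set G)) (hm : ∀ x ∈ K, φ x ∈ K) (hz : z ∈ K) (hz1 : z ≠ 1)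
    (hz2 : z * z = 1) (s1 : ∀ x ∈ K, x * x = 1 → x = 1 ∨ x = z)
    (s2 : ∀ x ∈ K, ∀ a ∈ K, ∀ b ∈ K, a * b ≠ b * a → x * a = a * x → x * b = b * x → x * x = 1)
    (ha : a ∈ K) (hb : b ∈ K) (hab : a * b ≠ b * a) (ht : t ∈ X)
    (s3 : ∀ d ∈ K, ∀ a ∈ K, ∀ b ∈ K, t * d * a = a * (t * d) → t * d * b = b * (t * d) →
      a * b = b * a) : ∀ x ∈ K, φ x = x := by
  haveI := Fact.mk Nat.prime_two
  have z1 : ∀ t ∈ X, t * z = z * t := fun t ht => mul_inv_eq_iff_eq_mul.1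
    ((s1 _ (conj_mem_of_mem_normalizer (hn ht) hz)
      (by simp [mul_assoc, ← mul_assoc z z, hz2])).resolve_left (by simpa using hz1))
  have z2 : φ z = z := (s1 _ (hm z hz) (by
    rw [← hφ.mul z (hK hz) z (hK hz), hz2, hφ.map_one])).resolve_left
    (by rwa [hφ.eq_one_iff (hK hz)])
  obtain ⟨Y, hY⟩ : ∃ Y : G → Prop, ∀ c, Y c ↔ c ∈ K ∧ c * c ≠ 1 ∧
    ∀ t ∈ X, t * c = c * t ∨ t * c = z * c * t := ⟨_, fun _ => Iff.rfl⟩
  obtain ⟨c, hc⟩ : ∃ c, Y c := by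
    obtain ⟨c, hc, h1, h2⟩ := exists_central_mod (Z := two z hz2) hX hK hn fun h => hab (by
      rcases h ha with e | e
      · simp [e]
      · rw [e, z1 b (hK hb)])
    refine ⟨c, (hY c).2 ⟨hc, fun e => h1 (s1 c hc e), fun t ht => (h2 t ht).imp (fun e => ?_)
      fun e => ?_⟩⟩
    · rw [mul_inv_eq_one, mul_inv_eq_iff_eq_mul] at e
      exact e.symm
    · rw [mul_inv_eq_iff_eq_mul, mul_inv_eq_iff_eq_mul] at e
      rw [mul_assoc, e, ← mul_assoc, ← mul_assoc, hz2, one_mul]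
  have y1 : ∀ c, Y c → c * c = z := fun c hc => by
    obtain ⟨h1, h2, h3⟩ := (hY c).1 hc
    have k : ∀ t ∈ X, c * c * t = t * (c * c) := fun t ht => by
      rcases h3 t ht with e | e
      · rw [← mul_assoc, e, mul_assoc c t, e, mul_assoc]
      · rw [← mul_assoc, e, mul_assoc _ t, e]
        calc _ = c * (z * z) * c * t := by rw [hz2, mul_one]
          _ = c * z * (z * c * t) := by group
          _ = _ := by rw [z1 c (hK h1)]
    exact (s1 _ (mul_mem h1 h1) (s2 _ (mul_mem h1 h1) a ha b hb hab (k a (hK ha))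
      (k b (hK hb)))).resolve_left h2
  have y2 : ∀ c c', Y c → Y c' → c * c' = c' * c := fun c c' hc hc' => by
    obtain ⟨h1, -, h3⟩ := (hY c).1 hc
    obtain ⟨h1', -, h3'⟩ := (hY c').1 hc'
    by_contra hne
    have e1 := (h3 c' (hK h1')).resolve_left (Ne.symm hne)
    have e2 := (h3' c (hK h1)).resolve_left hne
    have k : ∀ u v w : G, u * w = z * w * u → v * w = z * w * v → u ∈ X → u * v * w = w * (u * v) :=
      fun u v w e1 e2 hu => by
        rw [mul_assoc, e2, ← mul_assoc, ← mul_assoc, z1 u hu, mul_assoc z, e1, ← mul_assoc,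
          ← mul_assoc, hz2, one_mul, mul_assoc]
    have k' : ∀ u v w : G, u * w = w * u → v * w = w * v → u * v * w = w * (u * v) :=
      fun u v w e1 e2 => by rw [mul_assoc, e2, ← mul_assoc, e1, mul_assoc]
    have k'' : ∀ u v w : G, u * w = z * w * u → v * w = w * v → u * v * w = z * w * (u * v) :=
      fun u v w e1 e2 => by rw [mul_assoc, e2, ← mul_assoc, e1, mul_assoc]
    refine hne ?_
    rcases h3 t ht with f1 | f1 <;> rcases h3' t ht with f2 | f2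
    · exact s3 1 (one_mem _) c h1 c' h1' (by simpa using f1) (by simpa using f2)
    · exact s3 c h1 c h1 c' h1' (k' _ _ _ f1 rfl) (k _ _ _ f2 e2 ht)
    · exact s3 c' h1' c h1 c' h1' (k _ _ _ f1 e1 ht) (k' _ _ _ f2 rfl)
    · exact s3 (c' * c) (mul_mem h1' h1) c h1 c' h1' (k _ _ _ f1 (k'' _ _ _ e1 rfl) ht)
        (k _ _ _ f2 (by rw [mul_assoc, e2, ← mul_assoc, ← mul_assoc, z1 c' (hK h1'), mul_assoc]) ht)
  obtain ⟨h1, h2, h3⟩ := (hY c).1 hc
  have y3 : Y (φ c) := (hY _).2 ⟨hm c h1, by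
    rwa [← hφ.mul c (hK h1) c (hK h1), Ne, hφ.eq_one_iff (hK (mul_mem h1 h1))], fun t ht => by
      obtain ⟨t, ht', rfl⟩ := hφ.exists_eq ht
      rw [← z2, ← hφ.mul t ht' c (hK h1), ← hφ.mul c (hK h1) t ht', ← hφ.mul z (hK hz) c (hK h1),
        ← hφ.mul _ (hK (mul_mem hz h1)) t ht']
      exact (h3 t ht').imp (congrArg φ) (congrArg φ)⟩
  have y4 : φ c = c := hφ.fix_of_mem_zpowers (hK h1) (r := 2) (by
    rw [show 2 ^ 2 = 2 * 2 from rfl, pow_mul, sq, sq, y1 c hc, hz2]) (by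
      rcases s1 _ (mul_mem h1 (hm c h1)) (by
        rw [mul_assoc, ← mul_assoc (φ c), ← y2 _ _ hc y3, mul_assoc, y1 _ y3, ← mul_assoc, y1 c hc,
          hz2]) with e | e
      · rw [eq_inv_of_mul_eq_one_right e]; exact inv_mem (mem_zpowers c)
      · rw [← y1 c hc, mul_right_inj] at e
        rw [e]; exact mem_zpowers c) c (mem_zpowers c)
  have hφ' := hφ.mono hK hm
  have mc : ∀ x, x ∈ K ⊓ centralizer {c} ↔ x ∈ K ∧ x * c = c * x := fun x => by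
    rw [mem_inf, mem_centralizer_singleton_iff]
  refine hφ'.fix_of_index_two (hX.to_le hK) (A := K ⊓ centralizer {c}) inf_le_left
    ((hφ'.mono inf_le_left fun x hx => (mc _).2 ⟨hm x hx.1, by
      rw [← y4, ← hφ'.mul x hx.1 c h1, ((mc x).1 hx).2, hφ'.mul c h1 x hx.1]⟩).fix_of_fix_involutions
      (hX.to_le (inf_le_left.trans hK)) (fun x hx y hy => by
        by_contra h
        exact h2 (s2 c h1 x hx.1 y hy.1 h ((mc x).1 hx).2.symm ((mc y).1 hy).2.symm))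
      fun x hx e => by rcases s1 x hx.1 e with rfl | rfl; exacts [hφ.map_one, z2])
    fun x hx y hy hx' hy' => (mc _).2 ⟨mul_mem (inv_mem hx) hy, ?_⟩
  have e1 := (h3 x (hK hx)).resolve_left fun e => hx' ((mc x).2 ⟨hx, e⟩)
  have e2 := (h3 y (hK hy)).resolve_left fun e => hy' ((mc y).2 ⟨hy, e⟩)
  rw [mul_assoc, e2, ← mul_inv_eq_iff_eq_mul.2 e1]; group

theorem fix_of_cent (hφ : OddAut T φ) (hT : IsPGroup 2 T)
    (h : ∀ C : Subgroup G, (∀ x, x ∈ C ↔ x ∈ T ∧ ∀ r ∈ T, φ r = r → x * r = r * x) →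
      (∀ x ∈ C, ∀ y ∈ C, x * y = y * x) ∧ ∀ x ∈ C, x * x = 1 → φ x = x) : ∀ x ∈ T, φ x = x := by
  haveI := Fact.mk Nat.prime_two
  obtain ⟨R, hR⟩ : ∃ R : Subgroup G, ∀ x, x ∈ R ↔ x ∈ T ∧ φ x = x :=
    ⟨{ carrier := {x | x ∈ T ∧ φ x = x}
       mul_mem' := fun {a b} ha hb => ⟨mul_mem ha.1 hb.1, by rw [hφ.mul a ha.1 b hb.1, ha.2, hb.2]⟩
       one_mem' := ⟨one_mem _, hφ.map_one⟩
       inv_mem' := fun {a} ha => ⟨inv_mem ha.1, by rw [hφ.map_inv ha.1, ha.2]⟩ }, fun _ => Iff.rfl⟩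
  have hRT : R ≤ T := fun x hx => ((hR x).1 hx).1
  have hC : ∀ x, x ∈ T ⊓ centralizer (R : Set G) ↔ x ∈ T ∧ ∀ r ∈ T, φ r = r → x * r = r * x :=
    fun x => and_congr_right fun _ => ⟨fun h r h1 h2 => (h r ((hR r).2 ⟨h1, h2⟩)).symm,
      fun h r hr => (h r (hRT hr) ((hR r).1 hr).2).symm⟩
  obtain ⟨h1, h2⟩ := h _ hC
  have h3 := (hφ.mono inf_le_left fun x hx => (hC _).2 ⟨hφ.mem x hx.1, fun r hr e => by
    rw [← e, ← hφ.mul x hx.1 r hr, ((hC x).1 hx).2 r hr e, hφ.mul r hr x hx.1]⟩).fix_of_fix_involutions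
    (hT.to_le inf_le_left) h1 h2
  by_contra hn
  obtain ⟨x, hx, hx', hxn⟩ := exists_mem_normalizer_not_mem hT (lt_of_le_of_ne hRT fun e =>
    hn fun x hx => ((hR x).1 (e ▸ hx)).2)
  refine hx' ((hR x).2 ⟨hx, hφ.fix_of_step' hT inf_le_left h3 hx ((hC _).2
    ⟨mul_mem (inv_mem hx) (hφ.mem x hx), fun r hr e => ?_⟩)⟩)
  have e1 := ((hR _).1 (conj_mem_of_mem_normalizer hxn ((hR r).2 ⟨hr, e⟩))).2
  rw [hφ.mul _ (mul_mem hx hr) _ (inv_mem hx), hφ.mul x hx r hr, hφ.map_inv hx, e] at e1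
  rw [mul_assoc, mul_inv_eq_iff_eq_mul.1 e1]; group

/-- a fusion preserving automorphism of odd order -/
structure FA (T : Subgroup G) (φ : G → G) : Prop extends OddAut T φ where
  fus : ∀ a ∈ T, ∀ b ∈ T, ∀ g, g * a * g⁻¹ ∈ T → g * b * g⁻¹ ∈ T →
    ∃ h, h * φ a * h⁻¹ = φ (g * a * g⁻¹) ∧ h * φ b * h⁻¹ = φ (g * b * g⁻¹)

theorem FA.th (h : FA T φ) (ha : a ∈ T) (hb : b ∈ T) (h1 : Th a b) : Th (φ a) (φ b) := by
  obtain ⟨⟨g, e1, e2⟩, e3, e4⟩ := h1
  obtain ⟨g', f1, f2⟩ := h.fus a ha b hb g (e1 ▸ hb) (e2 ▸ mul_mem ha hb)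
  exact ⟨⟨g', by rw [f1, e1], by rw [f2, e2, h.mul a ha b hb]⟩,
    by rw [← h.mul b hb a ha, ← h.mul _ (mul_mem hb ha) b hb, e3],
    by rwa [← h.mul a ha a ha, Ne, h.eq_one_iff (mul_mem ha ha)]⟩

theorem FA.iterate (h : FA T φ) (k : ℕ) (ha : a ∈ T) (hb : b ∈ T) (e : IsConj a b) :
    IsConj (φ^[k] a) (φ^[k] b) := by
  induction k generalizing a b with
  | zero => exact e
  | succ k ih =>
    obtain ⟨g, rfl⟩ := isConj_iff.1 e
    obtain ⟨g', e', -⟩ := h.fus a ha a ha g hb hb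
    exact ih (h.mem a ha) (h.mem _ hb) (isConj_iff.2 ⟨g', e'⟩)

theorem FA.pp (h : FA T φ) (hT : SylIn 2 T ⊤) (ha : a ∈ T) (h1 : PP a) : PP (φ a) := by
  haveI := Fact.mk Nat.prime_two
  intro y e1 e2
  obtain ⟨k, hk⟩ := isPGroup_subgroup_iff.1 hT.isPGroup _ (h.mem a ha)
  have hy : y ^ 2 ^ 2 = 1 := by rw [show 2 ^ 2 = 2 * 2 from rfl, pow_mul, sq, sq, e1]
  have hQ : IsPGroup 2 (zpowers y ⊔ (zpowers (φ a) ⊔ zpowers (y * y)) : Subgroup G) :=
    isPGroup_sup_of_le_normalizer (isPGroup_zpowers hy) (isPGroup_sup_of_le_normalizer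
      (isPGroup_zpowers hk) (isPGroup_zpowers (k := 1) (by rw [pow_one, sq, e1]))
      (zpowers_le.2 (cj_eq_self_iff.1 (by rw [cj_zpowers, ← (pp_comm e1 e2).1]; simp))))
      (zpowers_le.2 (mem_normalizer_of_cj_le (by
        rw [cj_sup, cj_zpowers, cj_zpowers, e2, mul_assoc, mul_inv_cancel_right]
        exact sup_le (zpowers_le.2 (mul_mem_sup (mem_zpowers _) (mem_zpowers _))) le_sup_right)))
  obtain ⟨g, -, hg⟩ := hT.exists_cj_le hQ le_top
  have hy' := cj_le_iff.1 hg y (mem_sup_left (mem_zpowers y))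
  have ha' := cj_le_iff.1 hg _ (mem_sup_right (mem_sup_left (mem_zpowers (φ a))))
  obtain ⟨y0, hy0, e3⟩ := h.exists_eq hy'
  obtain ⟨a0, ha0, e4⟩ := h.exists_eq ha'
  obtain ⟨_, ⟨m, rfl⟩, hm⟩ := h.odd
  obtain ⟨c, hc⟩ := isConj_iff.1 (h.iterate (2 * m) (h.mem a ha) ha' (isConj_iff.2 ⟨g, rfl⟩))
  rw [← e4, ← Function.iterate_succ_apply, ← Function.iterate_succ_apply, Nat.succ_eq_add_one,
    hm a ha, hm a0 ha0] at hc
  have yy := mul_mem hy0 hy0
  have e5 : φ (y0 * y0) = g * (y * y) * g⁻¹ := by rw [h.mul y0 hy0 y0 hy0, e3]; group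
  refine ((hc ▸ h1.conj c) y0 ((h.eq_one_iff (mul_mem yy yy)).1 ?_)
    (h.inj (mul_mem (mul_mem hy0 ha0) (inv_mem hy0)) (mul_mem ha0 yy) ?_)).imp
    (fun e => ?_) fun e => ?_
  · rw [h.mul _ yy _ yy, e5, conj_mul, e1]; simp
  · rw [h.mul _ (mul_mem hy0 ha0) _ (inv_mem hy0), h.mul _ hy0 _ ha0, h.map_inv hy0,
      h.mul _ ha0 _ yy, e5, e3, e4, conj_mul, conj_mul, ← e2]; group
  · rw [e, h.map_one] at e5
    simpa using e5.symm
  · rw [e, h.mul _ ha0 _ ha0, e4, conj_mul] at e5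
    simpa using e5.symm

end Cfsg.Agent.H4
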