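import Cfsg.Agent.Lib.H4.LinG

/-!
Fundamental subgroups meeting a 2-subgroup in a quaternion group are orthogonal.
-/

set_option autoImplicit false
set_option linter.unusedSectionVars false

namespace Cfsg.Agent.H4

open Matrix Subgroup H6 H2 Lin
open scoped MatrixGroups

variable {n F : Type*} [Fintype n] [DecidableEq n] [Field F] [Fintype F]
variable {e e' f m : Matrix n n F} {x : SpecialLinearGroup n F}
  {a b a' b' c : ProjectiveSpecialLinearGroup n F}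
  {P : Subgroup (ProjectiveSpecialLinearGroup n F)}

theorem Fund.idem (h : Fund e a b) : e * e = e := by
  obtain ⟨D, rfl⟩ := h.1
  exact D.e_e

theorem Fund.ne (h : Fund e a b) : e ≠ 0 := by
  obtain ⟨D, rfl⟩ := h.1
  exact D.e_ne

theorem comm_of_orth (h1 : e * e' = 0) (h2 : e' * e = 0) (ha : a ∈ (SLe (1 - e)).map pr)
    (hb : b ∈ (SLe (1 - e')).map pr) : a * b = b * a := by
  obtain ⟨A, hA, rfl⟩ := ha
  obtain ⟨B, hB, rfl⟩ := hb
  rw [← map_mul, SLe_commute hA (SLe_le h2 h1 hB), map_mul]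

variable (hn : 2 < Fintype.card n) (h2 : (2 : F) ≠ 0)
include hn

theorem Blk.scalar' (D : Blk (Fin 2) n F) (ha : a ∈ (SLe (1 - D.e)).map pr)
    (hb : b ∈ (SLe (1 - D.e)).map pr) (hab : a * b ≠ b * a) (h0 : x.1 * D.e = D.e * x.1)
    (h3 : pr x * a = a * pr x) (h4 : pr x * b = b * pr x) : ∃ c : F, x.1 * D.e = c • D.e := by
  have k : ∀ A ∈ SLe (1 - D.e), pr x * pr A = pr A * pr x → x.1 * A.1 = A.1 * x.1 :=
    fun A hA h => by
      have := conj_mem_SLe hA x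
      rw [smul_sub, smul_one, pr_smul_eq_iff.2 h0] at this
      have e := pr_inj (D.one_sub_ne (by simpa using hn)) this hA (by simp [h])
      rw [← sl_mul, mul_inv_eq_iff_eq_mul.1 e, sl_mul]
  obtain ⟨A, hA, rfl⟩ := ha
  obtain ⟨B, hB, rfl⟩ := hb
  exact D.scalar hA hB (fun e => hab (by rw [← map_mul, e, map_mul])) h0 (k A hA h3) (k B hB h4)

theorem Blk.sq_of_comm (D : Blk (Fin 2) n F) (hc : c ∈ (SLe (1 - D.e)).map pr)
    (ha : a ∈ (SLe (1 - D.e)).map pr) (hb : b ∈ (SLe (1 - D.e)).map pr) (hab : a * b ≠ b * a)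
    (h3 : c * a = a * c) (h4 : c * b = b * c) : c * c = 1 := by
  obtain ⟨C, hC, rfl⟩ := hc
  obtain ⟨k, hk⟩ := D.scalar' hn ha hb hab (SLe_comm hC) h3 h4
  obtain ⟨g, rfl⟩ := D.exists_embSL hC
  have h5 := D.res_of_mul_e hk
  rw [D.coe_embSL, D.res_emb] at h5
  have h6 := g.2
  rw [h5, det_smul, det_one, mul_one, Fintype.card_fin, sq] at h6
  rw [← map_mul, ← map_mul, show g * g = 1 from Subtype.ext (by
    rw [sl_mul, h5, smul_mul_smul_comm, h6, one_mul, one_smul, sl_one]), map_one, map_one]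

theorem Fund.not_comm (h : Fund e a b) (h' : Fund e a' b') (h3 : a' * a = a * a')
    (h4 : a' * b = b * a') : False := by
  obtain ⟨D, rfl⟩ := h.1
  exact h'.2.1.2.2 (D.sq_of_comm hn h'.2.2.1 h.2.2.1 h.2.2.2 h.2.1.not_comm h3 h4)

include h2

theorem Blk.sq_one' (D : Blk (Fin 2) n F) (hc : c ∈ (SLe (1 - D.e)).map pr) (h : c * c = 1) :
    c = 1 ∨ c = pr (D.embSL (-1)) := by
  obtain ⟨C, hC, rfl⟩ := hc
  exact (D.sq_one h2 hC (pr_inj (D.one_sub_ne (by simpa using hn)) (mul_mem hC hC) (one_mem _)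
    (by simpa using h))).imp (fun e => by rw [e, map_one]) fun e => by rw [e]

theorem Fund.orth_of_fix (h : Fund e a b) (h' : Fund e' a' b') (h3 : a' • e = e)
    (h4 : b' • e = e) : e = e' ∨ (e * e' = 0 ∧ e' * e = 0) := by
  obtain ⟨D', A, B, rfl, hA, hB, rfl, rfl, hz, hAB⟩ := h'.lift hn h2
  obtain ⟨D, rfl⟩ := h.1
  rw [pr_smul_eq_iff] at h3 h4
  have h5 : D.e * D'.e = D'.e * D.e := comm_of_zz h2 (by
    rw [← D'.coe_neg_one, ← hz, sl_mul, mul_assoc, h3, ← mul_assoc, ← mul_assoc, h3])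
  obtain ⟨c, hc⟩ := D'.scalar hA hB hAB h5 h3.symm h4.symm
  have h6 : c * c = c := smul_left_injective F D'.e_ne (by
    simp only
    rw [← smul_smul, ← hc, ← mul_smul_comm, ← hc, ← mul_assoc, D.e_e])
  rcases eq_zero_or_one_of_sq_eq_self ((sq c).trans h6) with rfl | rfl
  · rw [zero_smul] at hc
    exact Or.inr ⟨hc, h5 ▸ hc⟩
  · rw [one_smul] at hc
    exact Or.inl (D.eq_of_le D' hc (h5 ▸ hc))

theorem Fund.fix (h : Fund e a b) (h' : Fund e' a' b') (ha' : a' ∈ P)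
    (H : ∀ x ∈ P, ∀ y ∈ P, x • e = y • e ∨ (x • e * y • e = 0 ∧ y • e * x • e = 0)) :
    a' • e = e := by
  by_contra hne
  obtain ⟨D', A, -, rfl, hA, -, rfl, -, hz, -⟩ := h'.lift hn h2
  obtain ⟨D, rfl⟩ := h.1
  have k0 : ∀ Y ∈ SLe (1 - D'.e), D'.e * (1 - Y.1) = 1 - Y.1 ∧ (1 - Y.1) * D'.e = 1 - Y.1 :=
    fun Y hY => ⟨by
      have := hY.2
      rw [sub_mul, one_mul, sub_eq_sub_iff_sub_eq_sub] at this
      rw [mul_sub, mul_one, ← neg_sub Y.1, this, neg_sub], by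
      have := hY.1
      rw [mul_sub, mul_one, sub_eq_sub_iff_sub_eq_sub] at this
      rw [sub_mul, one_mul, ← neg_sub Y.1, this, neg_sub]⟩
  have k : ∀ Y ∈ SLe (1 - D'.e), pr Y ∈ P → pr Y • D.e ≠ D.e → (1 - Y.1) * D.e * D'.e = D'.e :=
    fun Y hY hP hne => by
      have e1 := ((H _ hP 1 (one_mem _)).resolve_left (by rwa [one_smul])).2
      rw [one_smul] at e1
      have := D.flip D' (m := 1 - Y.1) (by
        rw [mul_assoc D.e, (k0 Y hY).1, mul_assoc, sub_mul, one_mul, pr_smul_eq_iff.1 rfl, mul_sub,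
          ← mul_assoc, e1, D.e_e, zero_mul, sub_zero])
      rwa [(k0 Y hY).1] at this
  have k1 := k A hA ha' hne
  have hP2 : pr (A * A) ∈ P := map_mul pr A A ▸ mul_mem ha' ha'
  have k2 : pr (A * A) • D.e = D.e := by
    by_contra hne'
    have k3 := k _ (mul_mem hA hA) hP2 hne'
    rcases H _ ha' _ hP2 with e1 | ⟨e1, -⟩
    · rw [map_mul, mul_smul, smul_left_cancel_iff] at e1
      exact hne e1.symm
    replace k3 := k3.trans k1.symm
    rw [sub_mul, sub_mul, sub_mul, sub_mul, sub_right_inj,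
      pr_smul_eq_iff.1 (rfl : pr (A * A) • D.e = _), pr_smul_eq_iff.1 (rfl : pr A • D.e = _)] at k3
    have k4 := congrArg (pr A • D.e * ·) k3
    simp only [← mul_assoc, e1, zero_mul] at k4
    rw [← smul_mul', D.e_e, ← pr_smul_eq_iff.1 (rfl : pr A • D.e = _), mul_assoc] at k4
    refine D'.e_ne ?_
    rw [← k1, mul_assoc, ← sl_inv_mul' A (D.e * D'.e), ← k4, mul_zero, mul_zero]
  rw [pr_smul_eq_iff, hz, D'.coe_neg_one] at k2
  have k5 := comm_of_zz h2 k2.symm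
  rw [mul_assoc, k5, ← mul_assoc, (k0 A hA).2] at k1
  have k6 : D'.e * D.e = D'.e := by rw [← k1, mul_assoc, D.e_e]
  rw [D.eq_of_le D' (k5.trans k6) k6] at hne
  exact hne (smul_eq_of_mem ⟨A, hA, rfl⟩)

theorem Fund.orth (hP : IsPGroup 2 P) (h : Fund e a b) (h' : Fund e' a' b') (ha : a ∈ P)
    (hb : b ∈ P) (ha' : a' ∈ P) (hb' : b' ∈ P) : e = e' ∨ (e * e' = 0 ∧ e' * e = 0) := by
  haveI := Fact.mk Nat.prime_two
  induction hk : Nat.card P using Nat.strong_induction_on generalizing P e e' a b a' b' with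
  | _ k ih =>
  have hQ : closure {a, b} ≤ P := closure_pair_le ha hb
  rcases hQ.eq_or_lt with e1 | e1
  · have : P ≤ (SLe (1 - e)).map pr := e1 ▸ closure_pair_le h.2.2.1 h.2.2.2
    exact h.orth_of_fix hn h2 h' (smul_eq_of_mem (this ha')) (smul_eq_of_mem (this hb'))
  obtain ⟨M, m1, m2, m3⟩ := exists_lt_norm hP e1
  have cm : ∀ x ∈ P, x * a * x⁻¹ ∈ M ∧ x * b * x⁻¹ ∈ M := fun x hx =>
    ⟨conj_mem_of_mem_normalizer (m3 hx) (m1 (left_mem_closure_pair a b)),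
      conj_mem_of_mem_normalizer (m3 hx) (m1 (right_mem_closure_pair a b))⟩
  have H := fun x hx y hy => ih _ (hk ▸ card_lt_of_lt m2) (hP.to_le m2.le) (h.conj x) (h.conj y)
    (cm x hx).1 (cm x hx).2 (cm y hy).1 (cm y hy).2 rfl
  exact h.orth_of_fix hn h2 h' (h.fix hn h2 h' ha' H) (h.fix hn h2 h'.next hb' H)

theorem Fund.eq_of_not_comm (hP : IsPGroup 2 P) (h : Fund e a b) (h' : Fund e' a' b') (ha : a ∈ P)
    (hb : b ∈ P) (ha' : a' ∈ P) (hb' : b' ∈ P)
    (hc : a' * a = a * a' → a' * b = b * a' → False) : e = e' :=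
  (h.orth hn h2 hP h' ha hb ha' hb').resolve_right fun ⟨e1, e2⟩ =>
    hc (comm_of_orth e2 e1 h'.2.2.1 h.2.2.1) (comm_of_orth e2 e1 h'.2.2.1 h.2.2.2)

theorem Fund.uniq (hP : IsPGroup 2 P) (h : Fund e a b) (h' : Fund e' a b) (ha : a ∈ P)
    (hb : b ∈ P) : e = e' :=
  h.eq_of_not_comm hn h2 hP h' ha hb ha hb fun _ => h.2.1.not_comm

end Cfsg.Agent.H4
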