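import Cfsg.Agent.Lib.H4.Blk

/-!
Fundamental quaternion subgroups of `PSL_n(q)`, `q` odd, and a description of them which only uses
conjugation inside 2-subgroups.
-/

set_option autoImplicit false
set_option linter.unusedSectionVars false

namespace Cfsg.Agent.H4

open Matrix Subgroup H6
open scoped MatrixGroups

section grp
variable {G : Type*} [Group G] {a b g μ y : G}

/-- `a`, `b` generate a quaternion group with an automorphism of order three induced in `G` -/
def Th (a b : G) : Prop := (∃ g, g * a * g⁻¹ = b ∧ g * b * g⁻¹ = a * b) ∧ b * a * b = a ∧ a * a ≠ 1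

/-- a property of the elements of order four of the fundamental subgroups -/
def PP (a : G) : Prop :=
  ∀ y, y * y * (y * y) = 1 → y * a * y⁻¹ = a * (y * y) → y * y = 1 ∨ y * y = a * a

theorem q8_rel (h1 : g * a * g⁻¹ = b) (h2 : g * b * g⁻¹ = a * b) (h3 : b * a * b = μ * a)
    (hμ : ∀ x, x * μ = μ * x) : μ = 1 ∧ b * b = a * a ∧ a * a * (a * a) = 1 := by
  have c : ∀ x, x * μ * x⁻¹ = μ := fun x => by rw [hμ, mul_inv_cancel_right]
  have e1 : a * b * b * a = μ := mul_right_cancel (b := b) (by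
    calc _ = (g * b * g⁻¹) * (g * a * g⁻¹) * (g * b * g⁻¹) := by rw [h1, h2]; group
      _ = g * (b * a * b) * g⁻¹ := by group
      _ = g * μ * g⁻¹ * (g * a * g⁻¹) := by rw [h3]; group
      _ = _ := by rw [c, h1])
  have e2 : b * a * a * b = 1 := mul_left_cancel (a := μ) (by
    calc _ = b * a * (μ * a) * b := by rw [← mul_assoc (b * a), hμ (b * a)]; group
      _ = (g * a * g⁻¹) * (g * b * g⁻¹) * (g * b * g⁻¹) * (g * a * g⁻¹) := by
        rw [← h3, h1, h2]; group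
      _ = g * (a * b * b * a) * g⁻¹ := by group
      _ = _ := by rw [e1, c, mul_one])
  have e3 : b * b * (a * a) = 1 := by
    calc _ = b * (b * a * a * b) * b⁻¹ := by group
      _ = _ := by rw [e2]; group
  have e4 : μ = 1 := by
    rw [← c a⁻¹, ← e1, ← e3]; group
  rw [e4, one_mul] at h3
  have e5 : b * a * b⁻¹ = a * (a * a) := by
    rw [eq_inv_of_mul_eq_one_right e3]
    nth_rewrite 2 [← h3]
    group
  have e6 : a * a * (a * a) = 1 := mul_left_cancel (a := a * a) (by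
    calc _ = (b * a * b⁻¹) * (b * a * b⁻¹) := by rw [e5]; group
      _ = b * (a * a) * b⁻¹ := by group
      _ = _ := by rw [eq_inv_of_mul_eq_one_right e3]; group)
  exact ⟨e4, by rw [eq_inv_of_mul_eq_one_left e3, eq_comm, eq_inv_iff_mul_eq_one, e6], e6⟩

theorem Th.rel (h : Th a b) : b * b = a * a ∧ a * a * (a * a) = 1 :=
  let ⟨⟨_, h1, h2⟩, h3, _⟩ := h
  (q8_rel h1 h2 (h3.trans (one_mul a).symm) fun x => by simp).2

theorem Th.next (h : Th a b) : Th b (a * b) := by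
  obtain ⟨⟨g, h1, h2⟩, h3, h4⟩ := id h
  refine ⟨⟨g, h2, ?_⟩, ?_, h.rel.1 ▸ h4⟩
  · calc _ = (g * a * g⁻¹) * (g * b * g⁻¹) := by group
      _ = _ := by rw [h1, h2]
  · calc _ = a * (b * b) * a * b := by group
      _ = a * a * (a * a) * b := by rw [h.rel.1]; group
      _ = _ := by rw [h.rel.2, one_mul]

theorem Th.conj (h : Th a b) (t : G) : Th (t * a * t⁻¹) (t * b * t⁻¹) := by
  obtain ⟨⟨g, h1, h2⟩, h3, h4⟩ := h
  refine ⟨⟨t * g * t⁻¹, by rw [← h1]; group, ?_⟩, ?_, by simpa using h4⟩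
  · calc _ = t * (g * b * g⁻¹) * t⁻¹ := by group
      _ = _ := by rw [h2]; group
  · calc _ = t * (b * a * b) * t⁻¹ := by group
      _ = _ := by rw [h3]

theorem Th.not_comm (h : Th a b) : a * b ≠ b * a := fun e => h.2.2 (by
  have := h.2.1
  rw [← e, mul_assoc, mul_eq_left] at this
  rw [← h.rel.1, this])

theorem PP.conj (h : PP a) (t : G) : PP (t * a * t⁻¹) := fun y h1 h2 => by
  refine (h (t⁻¹ * y * t) ?_ ?_).imp (fun e => ?_) fun e => ?_
  · calc _ = t⁻¹ * (y * y * (y * y)) * t := by group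
      _ = _ := by rw [h1]; group
  · calc _ = t⁻¹ * (y * (t * a * t⁻¹) * y⁻¹) * t := by group
      _ = _ := by rw [h2]; group
  all_goals calc _ = t * (t⁻¹ * y * t * (t⁻¹ * y * t)) * t⁻¹ := by group
      _ = _ := by rw [e]; group

theorem pp_comm (h1 : y * y * (y * y) = 1) (h2 : y * a * y⁻¹ = a * (y * y)) :
    y * y * a = a * (y * y) ∧ y * (a * a) * y⁻¹ = a * a := by
  have e : y * y * a = a * (y * y) := by
    calc _ = y * (y * a * y⁻¹) * y := by group
      _ = y * a * y⁻¹ * (y * y) * (y * y) := by nth_rewrite 1 [h2]; group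
      _ = a * (y * y * (y * y)) * (y * y) := by rw [h2]; group
      _ = _ := by rw [h1, mul_one]
  refine ⟨e, ?_⟩
  calc _ = (y * a * y⁻¹) * (y * a * y⁻¹) := by group
    _ = a * (y * y * a) * (y * y) := by rw [h2]; group
    _ = a * a * (y * y * (y * y)) := by rw [e]; group
    _ = _ := by rw [h1, mul_one]

end grp

variable {n F : Type*} [Fintype n] [DecidableEq n] [Field F]
variable {e e' f m : Matrix n n F} {x y A B : SpecialLinearGroup n F}
  {a b a' b' : ProjectiveSpecialLinearGroup n F}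

/-- the projection to the projective group -/
def pr : SpecialLinearGroup n F →* ProjectiveSpecialLinearGroup n F := QuotientGroup.mk' _

theorem pr_surj : Function.Surjective (pr (n := n) (F := F)) := QuotientGroup.mk'_surjective _

theorem center_scalar (h : x ∈ center (SpecialLinearGroup n F)) : ∃ c : F, x.1 = c • 1 := by
  obtain ⟨c, -, hc⟩ := Matrix.SpecialLinearGroup.mem_center_iff.1 h
  exact ⟨c, by rw [← hc, scalar_apply, smul_one_eq_diagonal]⟩

theorem pr_eq_iff' : pr x = pr y ↔ ∃ z ∈ center (SpecialLinearGroup n F), x * z = y :=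
  QuotientGroup.mk'_eq_mk' _

theorem pr_eq_iff : pr x = pr y ↔ ∃ c : F, y.1 = c • x.1 := by
  rw [pr_eq_iff']
  refine ⟨?_, fun ⟨c, hc⟩ => ⟨x⁻¹ * y, Subgroup.mem_center_iff.2 fun g => Subtype.ext ?_, by simp⟩⟩
  · rintro ⟨z, hz, rfl⟩
    obtain ⟨c, hc⟩ := center_scalar hz
    exact ⟨c, by rw [sl_mul, hc, mul_smul_comm, mul_one]⟩
  · simp only [sl_mul, hc, mul_smul_comm, sl_inv_mul, smul_mul_assoc, mul_one, one_mul]

theorem conj_eq_of_pr (h : pr x = pr y) (m : Matrix n n F) : x.1 * m * x⁻¹.1 = y.1 * m * y⁻¹.1 := by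
  obtain ⟨c, hc⟩ := pr_eq_iff.1 h
  calc _ = x.1 * m * x⁻¹.1 * (y.1 * y⁻¹.1) := by rw [sl_mul_inv, mul_one]
    _ = _ := by
      simp only [hc, smul_mul_assoc, mul_smul_comm, mul_assoc, sl_inv_mul']

theorem pr_out (g : ProjectiveSpecialLinearGroup n F) : pr g.out = g := g.out_eq'

namespace Lin
/-- conjugation action on matrices -/
noncomputable scoped instance :
    MulSemiringAction (ProjectiveSpecialLinearGroup n F) (Matrix n n F) where
  smul g m := g.out.1 * m * g.out⁻¹.1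
  one_smul m := (conj_eq_of_pr ((pr_out 1).trans (map_one pr).symm) m).trans (by
    rw [inv_one, sl_one, one_mul, mul_one])
  mul_smul g h m := (conj_eq_of_pr (y := g.out * h.out) (by
    rw [map_mul, pr_out, pr_out, pr_out]) m).trans (by
      rw [_root_.mul_inv_rev, sl_mul, sl_mul]
      exact by simp only [HSMul.hSMul, mul_assoc])
  smul_zero g := show _ * _ * _ = _ by simp
  smul_add g a b := show _ * _ * _ = _ * _ * _ + _ * _ * _ by rw [mul_add, add_mul]
  smul_one g := show _ * _ * _ = _ by rw [mul_one, sl_mul_inv]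
  smul_mul g a b := show _ * _ * _ = _ * _ * _ * (_ * _ * _) by simp only [mul_assoc, sl_inv_mul']
end Lin
open Lin

theorem pr_smul (x : SpecialLinearGroup n F) (m : Matrix n n F) : pr x • m = x.1 * m * x⁻¹.1 :=
  conj_eq_of_pr (pr_out _) m

theorem pr_smul_eq_iff : pr x • e = e' ↔ x.1 * e = e' * x.1 := by
  rw [pr_smul]
  exact ⟨fun h => by rw [← h, mul_assoc, sl_inv_mul, mul_one],
    fun h => by rw [h, mul_assoc, sl_mul_inv, mul_one]⟩

theorem pr_smul_coe (x y : SpecialLinearGroup n F) : pr x • y.1 = (x * y * x⁻¹).1 := pr_smul x _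

theorem conj_mem_SLe (h : y ∈ SLe f) (x : SpecialLinearGroup n F) :
    x * y * x⁻¹ ∈ SLe (pr x • f) := by
  rw [mem_SLe, ← pr_smul_coe, ← smul_mul', ← smul_mul', h.1, h.2]
  exact ⟨rfl, rfl⟩

theorem pr_inj (hf : f ≠ 0) (hx : x ∈ SLe f) (hy : y ∈ SLe f) (h : pr x = pr y) : x = y := by
  obtain ⟨c, hc⟩ := pr_eq_iff.1 h
  have := hy.1
  rw [hc, smul_mul_assoc, hx.1] at this
  have h1 : c = 1 := smul_left_injective F hf (this.trans (one_smul F f).symm)
  exact Subtype.ext (by rw [hc, h1, one_smul])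

theorem smul_zz (g : ProjectiveSpecialLinearGroup n F) (e : Matrix n n F) :
    g • zz e = zz (g • e) := by simp only [zz, smul_sub, smul_one]

theorem add_self_inj (h2 : (2 : F) ≠ 0) (h : e + e = e' + e') : e = e' :=
  smul_right_injective _ h2 (by simpa only [two_smul] using h)

theorem zz_inj (h2 : (2 : F) ≠ 0) (h : zz e = zz e') : e = e' :=
  add_self_inj h2 (by simpa only [zz, sub_sub, sub_right_inj] using h)

theorem comm_of_zz (h2 : (2 : F) ≠ 0) (h : m * zz e = zz e * m) : m * e = e * m :=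
  add_self_inj h2 (by
    simpa only [zz, sub_sub, mul_sub, sub_mul, mul_one, one_mul, sub_right_inj, mul_add, add_mul]
      using h)

theorem zz_one_sub (e : Matrix n n F) : zz (1 - e) = -zz e := by simp only [zz]; abel

theorem Blk.sq_one (h2 : (2 : F) ≠ 0) (B : Blk (Fin 2) n F) (hx : x ∈ SLe (1 - B.e))
    (h : x * x = 1) : x = 1 ∨ x = B.embSL (-1) := by
  obtain ⟨g, rfl⟩ := B.exists_embSL hx
  rw [← map_mul, map_eq_one_iff _ B.embSL_injective] at h
  exact (sl2_eq_of_mul_self h2 h).imp (fun e => by rw [e, map_one]) fun e => by rw [e]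

theorem Blk.coe_neg_one (B : Blk (Fin 2) n F) : (B.embSL (-1)).1 = zz B.e := B.emb_neg_one

theorem Blk.scalar (D : Blk (Fin 2) n F) (hA : A ∈ SLe (1 - D.e)) (hB : B ∈ SLe (1 - D.e))
    (h : A * B ≠ B * A) (h0 : m * D.e = D.e * m) (h1 : m * A.1 = A.1 * m)
    (h2 : m * B.1 = B.1 * m) : ∃ c : F, m * D.e = c • D.e := by
  obtain ⟨c, hc⟩ := scalar_of_comm (a := D.res A.1) (b := D.res B.1) (m := D.res m) (by
    obtain ⟨g, rfl⟩ := D.exists_embSL hA
    obtain ⟨g', rfl⟩ := D.exists_embSL hB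
    rw [D.coe_embSL, D.coe_embSL, D.res_emb, D.res_emb]
    exact fun e => h (by rw [← map_mul, ← map_mul, show g * g' = g' * g from Subtype.ext e]))
    (by rw [← D.res_mul h0, h1, D.res_mul (SLe_comm hA)])
    (by rw [← D.res_mul h0, h2, D.res_mul (SLe_comm hB)])
  exact ⟨c, D.mul_e_of_res h0 hc⟩

/-- `a`, `b` generate a quaternion group inside the fundamental subgroup given by `e` -/
def Fund (e : Matrix n n F) (a b : ProjectiveSpecialLinearGroup n F) : Prop :=
  (∃ B : Blk (Fin 2) n F, B.e = e) ∧ Th a b ∧ a ∈ (SLe (1 - e)).map pr ∧ b ∈ (SLe (1 - e)).map pr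

theorem Fund.next (h : Fund e a b) : Fund e b (a * b) :=
  ⟨h.1, h.2.1.next, h.2.2.2, mul_mem h.2.2.1 h.2.2.2⟩

theorem conj_mem_map (h : a ∈ (SLe (1 - e)).map pr) (t : ProjectiveSpecialLinearGroup n F) :
    t * a * t⁻¹ ∈ (SLe (1 - t • e)).map pr := by
  obtain ⟨x, rfl⟩ := pr_surj t
  obtain ⟨y, hy, rfl⟩ := h
  have := conj_mem_SLe hy x
  rw [smul_sub, smul_one] at this
  exact ⟨x * y * x⁻¹, this, by simp⟩

theorem Fund.conj (h : Fund e a b) (t : ProjectiveSpecialLinearGroup n F) :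
    Fund (t • e) (t * a * t⁻¹) (t * b * t⁻¹) := by
  refine ⟨?_, h.2.1.conj t, conj_mem_map h.2.2.1 t, conj_mem_map h.2.2.2 t⟩
  obtain ⟨x, rfl⟩ := pr_surj t
  obtain ⟨B, rfl⟩ := h.1
  exact ⟨B.conj x, by rw [B.conj_e, pr_smul]⟩

theorem smul_eq_of_mem (h : a ∈ (SLe (1 - e)).map pr) : a • e = e := by
  obtain ⟨y, hy, rfl⟩ := h
  exact pr_smul_eq_iff.2 (SLe_comm hy)

theorem Th.lift (h : Th a b) : ∃ A B G : SpecialLinearGroup n F, pr A = a ∧ pr B = b ∧
    G * A * G⁻¹ = B ∧ G * B * G⁻¹ = A * B ∧ B * A * B = A ∧ B * B = A * A ∧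
      A * A * (A * A) = 1 := by
  obtain ⟨⟨g, h1, h2⟩, h3, -⟩ := h
  obtain ⟨G, rfl⟩ := pr_surj g
  obtain ⟨B₀, rfl⟩ := pr_surj b
  obtain ⟨A, hA⟩ : ∃ A, A = G * B₀ * G⁻¹ * B₀⁻¹ := ⟨_, rfl⟩
  have e1 : pr A = a := by simp [hA, h2]
  have e2 : pr B₀ = pr (G * A * G⁻¹) := by simp [e1, h1]
  obtain ⟨z, hz, e3⟩ := pr_eq_iff'.1 e2
  have e4 : G * (G * A * G⁻¹) * G⁻¹ = A * (G * A * G⁻¹) := by
    rw [← e3, ← mul_assoc, mul_assoc _ z, ← Subgroup.mem_center_iff.1 hz, hA]; group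
  obtain ⟨μ, hμ, e5⟩ := pr_eq_iff'.1 (show pr A = pr (G * A * G⁻¹ * A * (G * A * G⁻¹)) by
    rw [map_mul, map_mul, ← e2, e1, h3])
  rw [Subgroup.mem_center_iff.1 hμ] at e5
  obtain ⟨e6, e7⟩ := q8_rel rfl e4 e5.symm (Subgroup.mem_center_iff.1 hμ)
  exact ⟨A, _, G, e1, e2.symm, rfl, e4, by rw [← e5, e6, one_mul], e7⟩

section
variable (hn : 2 < Fintype.card n) (h2 : (2 : F) ≠ 0)
include hn h2

theorem Fund.lift (h : Fund e a b) : ∃ (D : Blk (Fin 2) n F) (A B : SpecialLinearGroup n F),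
    D.e = e ∧ A ∈ SLe (1 - e) ∧ B ∈ SLe (1 - e) ∧ pr A = a ∧ pr B = b ∧ A * A = D.embSL (-1) ∧
      A * B ≠ B * A := by
  obtain ⟨⟨D, rfl⟩, h3, ⟨A, hA, rfl⟩, B, hB, rfl⟩ := h
  refine ⟨D, A, B, rfl, hA, hB, rfl, rfl, (D.sq_one h2 (mul_mem hA hA) ?_).resolve_left
    fun e => h3.2.2 (by rw [← map_mul, e, map_one]),
    fun e => h3.not_comm (by rw [← map_mul, e, map_mul])⟩
  exact pr_inj (D.one_sub_ne (by simpa using hn)) (mul_mem (mul_mem hA hA) (mul_mem hA hA))
    (one_mem _) (by simpa using h3.rel.2)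

theorem Fund.pp (h : Fund e a b) : PP a := by
  intro y hy1 hy2
  obtain ⟨D, A, -, rfl, hA, -, rfl, -, hz, -⟩ := h.lift hn h2
  obtain ⟨Y, rfl⟩ := pr_surj y
  have hf := D.one_sub_ne (by simpa using hn)
  have hW : pr (A⁻¹ * (Y * A * Y⁻¹)) = pr Y * pr Y := by simp [hy2]
  obtain ⟨κ, hκ⟩ := pr_eq_iff.1 (show pr (A * A) = pr (Y * (A * A) * Y⁻¹) by
    simpa using (pp_comm hy1 hy2).2.symm)
  have z2 : A * A * (A * A) = 1 := by rw [hz, ← map_mul]; simp
  have hκ2 : κ * κ = 1 := by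
    have := congrArg Subtype.val (show Y * (A * A) * Y⁻¹ * (Y * (A * A) * Y⁻¹) = 1 by
      calc _ = Y * (A * A * (A * A)) * Y⁻¹ := by group
        _ = _ := by rw [z2]; group)
    rw [sl_mul, hκ, smul_mul_smul_comm, ← sl_mul, z2, sl_one] at this
    have hne : Nonempty n := Fintype.card_pos_iff.1 (by omega)
    exact smul_left_injective F one_ne_zero (this.trans (one_smul F _).symm)
  rw [← pr_smul_coe, hz, D.coe_neg_one, smul_zz] at hκ
  have hA' := conj_mem_SLe hA Y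
  rw [smul_sub, smul_one] at hA'
  rcases mul_self_eq_one_iff.1 hκ2 with rfl | rfl
  · rw [zz_inj h2 (hκ.trans (one_smul F _))] at hA'
    have hW' := mul_mem (inv_mem hA) hA'
    rw [← hW, ← map_mul, hz]
    exact (D.sq_one h2 hW' (pr_inj hf (mul_mem hW' hW') (one_mem _) (by
      rw [map_mul, hW, hy1, map_one]))).imp (fun e => by rw [e, map_one]) fun e => by rw [e]
  · exfalso
    rw [neg_smul, one_smul, ← zz_one_sub] at hκ
    rw [zz_inj h2 hκ, sub_sub_cancel] at hA'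
    have c := SLe_commute hA hA'
    obtain ⟨μ, hμ, e1⟩ := pr_eq_iff'.1 (hW.trans (map_mul pr Y Y).symm)
    have hμ' := Subgroup.mem_center_iff.1 hμ
    obtain ⟨A', hA''⟩ : ∃ A', A' = Y * A * Y⁻¹ := ⟨_, rfl⟩
    rw [← hA''] at c e1
    have e2 : Y * A' * Y⁻¹ = A := by
      calc _ = (Y * Y) * A * (Y * Y)⁻¹ := by rw [hA'']; group
        _ = A⁻¹ * (A' * (A * μ)) * μ⁻¹ * A'⁻¹ * A := by rw [← e1, hμ' A]; group
        _ = _ := by rw [← mul_assoc A', ← c]; group
    have e3 : A' * A' = A * A := by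
      have e4 : Y * (A⁻¹ * A' * μ) * Y⁻¹ = A⁻¹ * A' * μ := by rw [e1]; group
      have e5 : Y * (A⁻¹ * A' * μ) * Y⁻¹ = A'⁻¹ * A * μ := by
        calc _ = (Y * A * Y⁻¹)⁻¹ * (Y * A' * Y⁻¹) * (Y * μ * Y⁻¹) := by group
          _ = _ := by rw [← hA'', e2, hμ' Y, mul_inv_cancel_right]
      rw [e5, mul_left_inj] at e4
      calc _ = A' * A * (A⁻¹ * A') := by group
        _ = _ := by rw [← e4, ← c]; group
    have e6 := congrArg Subtype.val e3
    rw [hA'', show Y * A * Y⁻¹ * (Y * A * Y⁻¹) = Y * (A * A) * Y⁻¹ by group, ← pr_smul_coe, hz,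
      D.coe_neg_one, smul_zz, hκ] at e6
    have e7 := zz_inj h2 e6
    refine D.e_ne ?_
    rw [← D.e_e]
    nth_rewrite 1 [← e7]
    rw [sub_mul, D.e_e, one_mul, sub_self]

theorem PP.blk [Fintype F] (h : PP (pr A)) (D : Blk (Fin 2) n F) {ε : F} (hε : ε * ε = 1)
    (h3 : A.1 * D.X = D.X * !![0, ε; 1, 0]) (h4 : D.Φ * A.1 = !![0, ε; 1, 0] * D.Φ) :
    ∃ κ : F, zz D.e = κ • (A * A).1 := by
  obtain ⟨u, v, huv⟩ : ∃ u v : F, u * u - ε * (v * v) = -1 := by
    rcases mul_self_eq_one_iff.1 hε with rfl | rfl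
    · exact ⟨0, 1, by simp⟩
    · obtain ⟨p, hp⟩ := CharP.exists F
      have : NeZero p := ⟨CharP.char_ne_zero_of_finite F p⟩
      obtain ⟨u, v, h⟩ := CharP.sq_add_sq F p (-1)
      exact ⟨u, v, by push_cast at h; linear_combination h⟩
  obtain ⟨g, hg⟩ : ∃ g, g = sl2 u v (-ε * v) (-u) (by linear_combination -huv) := ⟨_, rfl⟩
  have g1 : g * g = -1 := Subtype.ext (by
    rw [hg]
    ext i j; fin_cases i <;> fin_cases j <;> simp [coe_sl2, Matrix.mul_apply, Fin.sum_univ_two] <;>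
      first | ring1 | linear_combination huv)
  have g2 : g.1 * !![0, ε; 1, 0] = !![0, ε; 1, 0] * (-1 * g).1 := by
    rw [hg]
    ext i j; fin_cases i <;> fin_cases j <;> simp [coe_sl2, Matrix.mul_apply, Fin.sum_univ_two] <;>
      first | ring1 | linear_combination v * hε | linear_combination -v * hε
  have e1 : D.embSL g * D.embSL g = D.embSL (-1) := by rw [← map_mul, g1]
  have e2 : D.embSL g * A = A * (D.embSL g * D.embSL g) * D.embSL g := Subtype.ext (by
    rw [e1, mul_assoc, ← map_mul]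
    simp only [sl_mul, D.coe_embSL, Blk.emb, Blk.e, Matrix.add_mul, Matrix.mul_add, Matrix.sub_mul,
      Matrix.mul_sub, Matrix.mul_assoc, h4, ← Matrix.mul_assoc A.1, h3, Matrix.one_mul,
      Matrix.mul_one]
    rw [← Matrix.mul_assoc g.1, g2, Matrix.mul_assoc, sl_mul, Matrix.mul_assoc])
  rcases h (pr (D.embSL g)) (by rw [← map_mul, e1, ← map_mul, ← map_mul]; simp)
    (by simpa using congrArg pr (mul_inv_eq_of_eq_mul e2)) with e3 | e3
  · rw [← map_mul, e1] at e3
    have := pr_inj (D.one_sub_ne (by simpa using hn)) (D.embSL_mem _) (one_mem _) e3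
    rw [map_eq_one_iff _ D.embSL_injective] at this
    exact absurd (congrArg Subtype.val this) (neg_one_ne_one_mat h2)
  · rw [← map_mul, e1, ← map_mul, eq_comm, pr_eq_iff, D.coe_neg_one] at e3
    exact e3

theorem Th.fund [Fintype F] (h : Th a b) (hP : PP a) : ∃ e, Fund e a b := by
  obtain ⟨A, B, G, rfl, rfl, h3, h4, h5, h6, h7⟩ := h.lift
  obtain ⟨p, hp⟩ : ∃ p, p = (2 : F)⁻¹ • (1 - (A * A).1) := ⟨_, rfl⟩
  have z1 : zz p = (A * A).1 := by
    rw [zz, sub_sub, ← two_smul F, hp, smul_smul, mul_inv_cancel₀ h2, one_smul, sub_sub_cancel]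
  have z2 : (A * A).1 * (A * A).1 = 1 := congrArg Subtype.val h7
  have z3 : (A * A).1 * p = -p := by rw [hp, mul_smul_comm, mul_sub, z2, mul_one, ← smul_neg, neg_sub]
  have pp : p * p = p := add_self_inj h2 (by
    rw [← z1, zz, sub_mul, sub_mul, one_mul, ← sub_eq_zero] at z3
    rw [← sub_eq_zero, ← neg_eq_zero, ← z3]; abel)
  have cm : ∀ X : SpecialLinearGroup n F, X * (A * A) = A * A * X → X.1 * p = p * X.1 :=
    fun X hX => comm_of_zz h2 (by rw [z1, ← sl_mul, hX, sl_mul])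
  have cA := cm A (mul_assoc _ _ _).symm
  have cB := cm B (by rw [← h6, mul_assoc])
  have cG := cm G (by
    calc _ = G * A * G⁻¹ * (G * A * G⁻¹) * G := by group
      _ = _ := by rw [h3, h6])
  have p0 : p ≠ 0 := fun e => h.2.2 (by
    rw [← map_mul, show A * A = 1 from Subtype.ext (by rw [← z1, e, zz]; simp), map_one])
  have unit : ∀ (X : SpecialLinearGroup n F) (m : Matrix n n F), X.1 * m = 0 → m = 0 :=
    fun X m e => by rw [← sl_inv_mul' X m, e, mul_zero]
  obtain ⟨D, d1, d2, d3, d4⟩ := exists_blk_comm h2 pp cA (fun c hc => by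
    have e1 : B * A = A * B * (A * A) := by
      calc _ = B * A * (B * B * (A * A)) := by rw [h6, h7, mul_one]
        _ = B * A * B * B * (A * A) := by group
        _ = _ := by rw [h5]
    have e2 := congrArg (·.1 * p) e1
    simp only [sl_mul, mul_assoc] at e2 z3
    rw [z3, mul_neg, mul_neg, cB, ← mul_assoc A.1, hc, mul_smul_comm, smul_mul_assoc, ← cB,
      eq_neg_iff_add_eq_zero, ← add_zero 0] at e2
    have e3 := unit B _ ((mul_smul_comm _ _ _).trans (add_self_inj h2 e2))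
    exact p0 (unit A _ (hc.trans e3))) (ε := -1) (by simp) (by rw [neg_smul, one_smul]; exact z3)
  have e1 : p * D.e = D.e := by rw [Blk.e, ← Matrix.mul_assoc, d1]
  have hp' : D.e = p := by
    obtain ⟨κ, hκ⟩ := hP.blk hn h2 D (by simp) d3 d4
    have := congrArg (· * D.e) hκ
    simp only [← z1, zz, smul_mul_assoc, sub_mul, one_mul, e1, D.e_e, sub_self, zero_sub,
      smul_neg, neg_inj] at this
    rw [smul_left_injective F D.e_ne (this.symm.trans (one_smul F _).symm), one_smul, ← z1] at hκ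
    exact zz_inj h2 hκ
  have ff : (1 - p) * (1 - p) = 1 - p := by rw [mul_sub, mul_one, sub_mul, pp]; simp
  have cm' : ∀ X : SpecialLinearGroup n F, X.1 * p = p * X.1 → X.1 * (1 - p) = (1 - p) * X.1 :=
    fun X hX => by rw [mul_sub, sub_mul, hX, mul_one, one_mul]
  have z4 : A.1 * A.1 * (1 - p) = (1 : F) • (1 - p) := by
    rw [← sl_mul, mul_sub, z3, ← z1, zz, one_smul, mul_one]; abel
  obtain ⟨c, hc⟩ : ∃ c : F, A.1 * (1 - p) = c • (1 - p) := by
    by_contra hc
    push Not at hc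
    obtain ⟨E, f1, f2, f3, f4⟩ := exists_blk_comm h2 ff (cm' A cA) hc (one_mul 1) z4
    have e2 : p * E.e = 0 := by
      rw [Blk.e, ← f1, ← Matrix.mul_assoc, ← Matrix.mul_assoc, mul_sub, pp]; simp
    obtain ⟨κ, hκ⟩ := hP.blk hn h2 E (one_mul 1) f3 f4
    have := congrArg (· * E.e) hκ
    simp only [← z1, zz, smul_mul_assoc, sub_mul, one_mul, e2, E.e_e, sub_self, zero_sub,
      sub_zero, ← neg_one_smul F E.e] at this
    rw [← smul_left_injective F E.e_ne this, neg_smul, one_smul, ← z1, ← zz_one_sub] at hκ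
    have e3 := zz_inj h2 hκ
    have e4 : A.1 = D.emb !![0, -1; 1, 0] * E.emb !![0, 1; 1, 0] := by
      rw [Blk.emb, Blk.emb, ← d3, ← f3, Matrix.mul_assoc, Matrix.mul_assoc, ← Blk.e, ← Blk.e, hp',
        e3, sub_sub_cancel, cm' A cA]
      simp only [add_mul, mul_add, ← mul_assoc, ff]
      simp only [mul_assoc, sub_mul, mul_sub, ← mul_assoc p p, pp, one_mul, mul_one, ← cA]
      abel
    have e5 := A.2
    rw [e4, det_mul, D.det_emb, E.det_emb, det_fin_two_of, det_fin_two_of] at e5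
    exact h2 (by linear_combination -e5)
  have cj : ∀ (X : SpecialLinearGroup n F) (c : F), X.1 * (1 - p) = c • (1 - p) →
      (G * X * G⁻¹).1 * (1 - p) = c • (1 - p) := fun X c hX => by
    rw [← pr_smul_coe, ← pr_smul_eq_iff.2 (cm' G cG), ← smul_mul', hX, pr_smul, pr_smul,
      mul_smul_comm, smul_mul_assoc]
  have hB := h3 ▸ cj A c hc
  have hAB := h4 ▸ cj B c hB
  rw [sl_mul, mul_assoc, hB, mul_smul_comm, hc, smul_smul] at hAB
  rw [mul_assoc, hc, mul_smul_comm, hc, smul_smul, hAB, one_smul] at z4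
  rw [z4] at hc hB
  exact ⟨p, ⟨D, hp'⟩, h, ⟨A, ⟨hc, (cm' A cA).symm.trans hc⟩, rfl⟩,
    ⟨B, ⟨hB, (cm' B cB).symm.trans hB⟩, rfl⟩⟩

end

end Cfsg.Agent.H4
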