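import Cfsg.Agent.Lib.H4.LinA

/-!
`PSL_n(q)`, `q` odd: fusion preserving automorphisms of odd order of a Sylow 2-subgroup are trivial,
and no involution is isolated.
-/

set_option autoImplicit false
set_option linter.unusedSectionVars false

namespace Cfsg.Agent.H4

open Matrix Subgroup H6 H2
open scoped MatrixGroups

variable {n F : Type*} [Fintype n] [DecidableEq n] [Field F] [Fintype F]

theorem FA.eq_lin {n : ℕ} (hn : 2 ≤ n) (hq : Odd (Fintype.card F))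
    (h8 : n = 2 → Fintype.card F % 8 = 1 ∨ Fintype.card F % 8 = 7)
    {T : Subgroup (ProjectiveSpecialLinearGroup (Fin n) F)} (hT : SylIn 2 T ⊤) {φ}
    (h : FA T φ) : ∀ x ∈ T, φ x = x := by
  haveI := Fact.mk Nat.prime_two
  have hF := Nat.odd_iff.1 hq
  rcases hn.lt_or_eq with hn | rfl
  · exact h.eq_of_three (by simpa using hn) (two_ne_zero_of_odd_card hF) hT
  have h1 := Fintype.one_lt_card (α := F)
  have h16 : 16 ∣ Fintype.card F ^ 2 - 1 := by
    refine (Nat.modEq_iff_dvd' (Nat.one_le_pow _ _ (by omega))).1 ?_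
    have : Fintype.card F % 16 = 1 ∨ Fintype.card F % 16 = 7 ∨ Fintype.card F % 16 = 9 ∨
      Fintype.card F % 16 = 15 := by have := h8 rfl; omega
    rcases this with e | e | e | e <;> rw [Nat.ModEq, Nat.pow_mod, e]
  obtain ⟨k, u, hu, e⟩ := Nat.exists_eq_two_pow_mul_odd (n := Fintype.card F ^ 2 - 1)
    (by have := Nat.one_lt_pow two_ne_zero h1; omega)
  have hk : 4 ≤ k := by
    rw [e] at h16
    exact (Nat.pow_dvd_pow_iff_le_right one_lt_two).1 (Nat.Coprime.dvd_of_dvd_mul_right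
      ((Nat.coprime_two_left.2 hu).pow_left 4) h16)
  obtain ⟨j, rfl⟩ := Nat.exists_eq_add_of_le' hk
  obtain ⟨U, x, y, hU, hm, -⟩ := model_PSL2 hF hu e
  obtain ⟨g, -, rfl⟩ := hT.exists_cj_eq hU
  have hm' := hm.map (f := (MulAut.conj g).toMonoidHom) (MulAut.conj g).injective
  by_contra hc
  push Not at hc
  obtain ⟨i, hi, -⟩ := hm'.oddAut_cases le_rfl h.toOddAut hc
  exact hm'.P_ne (by simp) i hi.symm

theorem exists_blk_sq (h2 : (2 : F) ≠ 0) {m : Matrix n n F} (h : ∀ c : F, m ≠ c • 1) {ε : F}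
    (hε : ε ≠ 0) (hm2 : m * m = ε • 1) : ∃ B : Blk (Fin 2) n F,
      m * B.X = B.X * !![0, ε; 1, 0] ∧ B.Φ * m = !![0, ε; 1, 0] * B.Φ := by
  obtain ⟨B, -, -, h5⟩ := exists_blk_two (p := 1) (m := m) (by simp) (by simp) (by simpa using h)
  replace h5 := h5 ε (by rw [mul_one, hm2])
  obtain ⟨S, hS⟩ : ∃ S, S = !![0, ε; 1, 0] := ⟨_, rfl⟩
  have hS2 : S * S = ε • (1 : Matrix (Fin 2) (Fin 2) F) := by
    rw [hS]; ext i j; fin_cases i <;> fin_cases j <;> simp
  rw [← hS] at h5 ⊢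
  refine ⟨⟨B.X, (2 : F)⁻¹ • (B.Φ + ε⁻¹ • (S * (B.Φ * m))), ?_⟩, h5, ?_⟩
  · rw [Matrix.smul_mul, Matrix.add_mul, Matrix.smul_mul, Matrix.mul_assoc, Matrix.mul_assoc, h5,
      B.hX, B.h, hS2, smul_smul, inv_mul_cancel₀ hε, one_smul, ← two_smul F, smul_smul,
      inv_mul_cancel₀ h2, one_smul]
  · simp only [Matrix.smul_mul, Matrix.add_mul, Matrix.mul_smul, Matrix.mul_add]
    rw [Matrix.mul_assoc, Matrix.mul_assoc, hm2, ← Matrix.mul_assoc S S, hS2]
    simp [smul_smul, hε, add_comm]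

theorem exists_anti (h2 : (2 : F) ≠ 0) {ε : F} (hε : ε ≠ 0) : ∃ g : SL(2, F),
    g.1 * g.1 = -1 ∧ g.1 * !![0, ε; 1, 0] = -(!![0, ε; 1, 0] * g.1) := by
  obtain ⟨u, w, h⟩ := FiniteField.exists_root_sum_quadratic
    (f := Polynomial.C (1 : F) * Polynomial.X ^ 2 + Polynomial.C 0 * Polynomial.X + Polynomial.C 1)
    (g := Polynomial.C (-ε) * Polynomial.X ^ 2 + Polynomial.C 0 * Polynomial.X + Polynomial.C 0)
    (Polynomial.degree_quadratic one_ne_zero) (Polynomial.degree_quadratic (neg_ne_zero.2 hε))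
    (FiniteField.odd_card_of_char_ne_two fun e =>
      h2 (by simpa [e] using ringChar.Nat.cast_ringChar (R := F)))
  simp at h
  refine ⟨⟨!![u, -(ε * w); w, -u], by rw [det_fin_two_of]; linear_combination -h⟩, ?_, ?_⟩ <;>
  ext i j <;> fin_cases i <;> fin_cases j <;> simp <;> first | ring1 | linear_combination h

theorem exists_comm_conj (h2 : (2 : F) ≠ 0) {x : ProjectiveSpecialLinearGroup n F} (h1 : x ≠ 1)
    (hx : x * x = 1) : ∃ g, Commute x (g * x * g⁻¹) ∧ g * x * g⁻¹ ≠ x := by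
  obtain ⟨X, rfl⟩ := pr_surj x
  obtain ⟨ε, hε⟩ := pr_eq_iff.1 (show pr 1 = pr (X * X) by rw [map_mul, hx, map_one])
  rw [sl_mul, sl_one] at hε
  have hs : ∀ c : F, X.1 ≠ c • 1 := fun c hc =>
    h1 ((pr_eq_iff.2 ⟨c, hc⟩).symm.trans (map_one pr))
  have hε0 : ε ≠ 0 := by
    rintro rfl
    refine hs 0 ?_
    rw [← sl_inv_mul' X X.1, hε]; simp
  obtain ⟨B, b1, b2⟩ := exists_blk_sq h2 hs hε0 hε
  obtain ⟨g, g1, g2⟩ := exists_anti h2 hε0
  have hXe : X.1 * B.e = B.e * X.1 := by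
    rw [Blk.e, ← Matrix.mul_assoc, b1, Matrix.mul_assoc, Matrix.mul_assoc, b2]
  have hne : (-1 : SL(2, F)) ≠ 1 := fun e => neg_one_ne_one_mat h2 (congrArg Subtype.val e)
  by_cases he : 1 - B.e = 0
  · have e1 : X.1 = B.emb !![0, ε; 1, 0] := by
      rw [Blk.emb, he, add_zero, ← b1, Matrix.mul_assoc, ← Blk.e, ← sub_eq_zero.1 he, mul_one]
    have e2 : det !![0, ε; 1, 0] = 1 := by rw [← B.det_emb, ← e1, X.2]
    obtain ⟨J, hJ⟩ : ∃ J : SL(2, F), J.1 = !![0, ε; 1, 0] := ⟨⟨_, e2⟩, rfl⟩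
    have e3 : J.1 * J.1 = -1 := by
      have : ε = -1 := by rw [det_fin_two_of] at e2; linear_combination -e2
      rw [hJ, this]; ext i j; fin_cases i <;> fin_cases j <;> simp
    rw [← hJ] at g2 e1
    obtain rfl : X = B.embSL J := Subtype.ext e1
    obtain ⟨w, hw⟩ : ∃ w : SL(2, F), w * g = J * w :=
      ⟨⟨_, det_omM h2 J.2 g.2 e3 g1 g2⟩, Subtype.ext (omM_conj e3 g1)⟩
    have e4 : pr (B.embSL w⁻¹) * pr (B.embSL J) * (pr (B.embSL w⁻¹))⁻¹ = pr (B.embSL g) := by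
      rw [← map_inv, ← map_inv, ← map_mul, ← map_mul, ← map_mul, ← map_mul, inv_inv, mul_assoc,
        ← hw, inv_mul_cancel_left]
    refine ⟨pr (B.embSL w⁻¹), ?_, ?_⟩ <;> rw [e4]
    · rw [Commute, SemiconjBy, ← map_mul, ← map_mul, ← map_mul, ← map_mul]
      refine pr_eq_iff.2 ⟨-1, ?_⟩
      simp only [B.coe_embSL, sl_mul, g2, Blk.emb, he, add_zero, neg_smul, one_smul,
        Matrix.mul_neg, Matrix.neg_mul]
    · intro e
      obtain ⟨c, hc⟩ := pr_eq_iff.1 e.symm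
      have e5 : g.1 = c • J.1 := by
        rw [← B.res_emb g.1, ← B.coe_embSL, hc, B.coe_embSL, Blk.res, Matrix.mul_smul,
          Matrix.smul_mul, ← Blk.res, B.res_emb]
      have e6 : J * g = -1 * (J * g) := Subtype.ext (by
        change J.1 * g.1 = -1 * (J.1 * g.1)
        rw [neg_one_mul, ← g2, e5, smul_mul_assoc, mul_smul_comm])
      exact hne (right_eq_mul.1 e6)
  · have e1 : B.embSL g * X * (B.embSL g)⁻¹ = X * B.embSL (-1) := by
      rw [mul_inv_eq_iff_eq_mul, mul_assoc, ← map_mul]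
      refine Subtype.ext ?_
      change B.emb g.1 * X.1 = X.1 * B.emb (-1 * g.1)
      rw [Blk.emb, Blk.emb, add_mul, mul_add, sub_mul, mul_sub, hXe, one_mul, mul_one,
        Matrix.mul_assoc, b2, ← Matrix.mul_assoc X.1, ← Matrix.mul_assoc X.1, b1, neg_one_mul,
        Matrix.mul_assoc B.X _ (-g.1), Matrix.mul_neg, ← g2]
      simp only [Matrix.mul_assoc]
    refine ⟨pr (B.embSL g), ?_, ?_⟩ <;> rw [← map_inv, ← map_mul, ← map_mul, e1]
    · refine Commute.map ((Commute.refl X).mul_right (Subtype.ext ?_)) pr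
      rw [sl_mul, sl_mul, B.coe_neg_one, zz, mul_sub, mul_sub, sub_mul, sub_mul, hXe, one_mul,
        mul_one]
    · rw [map_mul, Ne, mul_eq_left, ← map_one pr]
      exact fun e => hne ((map_eq_one_iff _ B.embSL_injective).1
        (pr_inj he (B.embSL_mem _) (one_mem _) e))

end Cfsg.Agent.H4
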