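import Mathlib

/-!
# Self-dual modules over finite fields
-/

set_option autoImplicit false
set_option linter.unusedSectionVars false

namespace Cfsg.Agent.H4

section Abelian

universe v

variable {F : Type*} [Field F] [Fintype F] {H : Type*} [CommGroup H]

theorem exists_field_of_irreducible {V : Type v} [AddCommGroup V] [Module F V]
    [FiniteDimensional F V] [Nontrivial V] (ρ : Representation F H V)
    (hirr : ∀ U : Submodule F V, (∀ h : H, ∀ u ∈ U, ρ h u ∈ U) → U = ⊥ ∨ U = ⊤) :
    ∃ (K : Type v) (_ : Field K) (_ : Algebra F K) (ι : H →* K) (e : K ≃ₗ[F] V),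
      (∀ h k, e (ι h * k) = ρ h (e k)) ∧ Algebra.adjoin F (Set.range ι) = ⊤ := by
  classical
  let A := Algebra.adjoin F (Set.range ρ)
  have hcomm : IsMulCommutative A := Algebra.isMulCommutative_adjoin F (by
    rintro _ ⟨a, rfl⟩ _ ⟨b, rfl⟩
    rw [← map_mul, ← map_mul, mul_comm])
  have hρ : ∀ h, ρ h ∈ A := fun h => Algebra.subset_adjoin ⟨h, rfl⟩
  have hc : ∀ (a b : A) (v : V), a.1 (b.1 v) = b.1 (a.1 v) := fun a b v =>
    congrArg (fun x : A => x.1 v) (hcomm.is_comm.comm a b)
  have hinj : ∀ a : A, a ≠ 0 → Function.Injective a.1 := by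
    intro a ha
    rw [← LinearMap.ker_eq_bot]
    refine (hirr _ fun h u hu => ?_).resolve_right fun h => ha ?_
    · rw [LinearMap.mem_ker] at hu ⊢
      rw [hc a ⟨_, hρ h⟩, hu, map_zero]
    · exact Subtype.ext (LinearMap.ker_eq_top.mp h)
  obtain ⟨v, hv⟩ := exists_ne (0 : V)
  let ev : A →ₗ[F] V := (LinearMap.applyₗ v).comp A.val.toLinearMap
  have hev : ∀ a : A, ev a = a.1 v := fun _ => rfl
  have hev1 : Function.Injective ev := by
    rw [injective_iff_map_eq_zero]
    intro a ha
    by_contra h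
    exact hv (hinj a h (by rw [map_zero]; exact ha))
  have hev2 : Function.Surjective ev := by
    rw [← LinearMap.range_eq_top]
    refine (hirr _ ?_).resolve_left fun h => hv ?_
    · rintro h _ ⟨a, rfl⟩
      exact ⟨⟨_, hρ h⟩ * a, rfl⟩
    · have : ev 1 ∈ LinearMap.range ev := ⟨1, rfl⟩
      rw [h] at this
      exact this
  have hF : IsField A := by
    refine ⟨⟨0, 1, fun h => hv ?_⟩, hcomm.is_comm.comm, fun {a} ha => ?_⟩
    · exact (congrArg ev h).symm.trans (map_zero ev)
    · obtain ⟨w, hw⟩ := LinearMap.surjective_of_injective (hinj a ha) v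
      obtain ⟨b, rfl⟩ := hev2 w
      exact ⟨b, hev1 hw⟩
  letI : Field A := hF.toField
  let ι : H →* A := MonoidHom.codRestrict ρ A hρ
  refine ⟨A, inferInstance, inferInstance, ι, LinearEquiv.ofBijective ev ⟨hev1, hev2⟩,
    fun h k => rfl, ?_⟩
  apply Subalgebra.map_injective (f := A.val) Subtype.val_injective
  rw [AlgHom.map_adjoin, Algebra.map_top, Subalgebra.range_val, ← Set.range_comp]
  rfl

variable {K : Type*} [Field K] [Algebra F K] [FiniteDimensional F K]

theorem exists_adjoint_aut (ι : H →* K) (hι : Algebra.adjoin F (Set.range ι) = ⊤)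
    (B : LinearMap.BilinForm F K) (hB : B.Nondegenerate)
    (hinv : ∀ h x y, B (ι h * x) (ι h * y) = B x y) :
    ∃ σ : K →ₐ[F] K, ∀ h, σ (ι h) = ι h⁻¹ := by
  have hex : ∀ a : K, ∃ a' : K, ∀ x y, B (a * x) y = B x (a' * y) := by
    intro a
    have ha : a ∈ Algebra.adjoin F (Set.range ι) := hι ▸ Algebra.mem_top
    induction ha using Algebra.adjoin_induction with
    | mem x hx =>
      obtain ⟨h, rfl⟩ := hx
      refine ⟨ι h⁻¹, fun x y => ?_⟩
      rw [← hinv h x, ← mul_assoc, ← map_mul]; simp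
    | algebraMap r =>
      exact ⟨algebraMap F K r, fun x y => by simp [← Algebra.smul_def]⟩
    | add a b _ _ ha hb =>
      obtain ⟨a', ha⟩ := ha
      obtain ⟨b', hb⟩ := hb
      exact ⟨a' + b', fun x y => by simp [add_mul, ha, hb]⟩
    | mul a b _ _ ha hb =>
      obtain ⟨a', ha⟩ := ha
      obtain ⟨b', hb⟩ := hb
      exact ⟨a' * b', fun x y => by rw [mul_assoc, ha, hb, mul_left_comm, mul_assoc]⟩
  choose s hs using hex
  have huniq : ∀ a b, (∀ x y, B (a * x) y = B x (b * y)) → s a = b := by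
    intro a b h
    rw [← sub_eq_zero]
    refine hB.2 _ fun x => ?_
    have h1 := hs a x 1
    rw [h x 1, mul_one, mul_one] at h1
    rw [map_sub, h1, sub_self]
  refine ⟨{ toFun := s
            map_one' := huniq _ _ (by simp)
            map_mul' := fun a b => huniq _ _ fun x y => by
              rw [mul_assoc, hs, hs, mul_left_comm, mul_assoc]
            map_zero' := huniq _ _ (by simp)
            map_add' := fun a b => huniq _ _ fun x y => by simp [add_mul, hs]
            commutes' := fun r => huniq _ _ fun x y => by simp [← Algebra.smul_def] },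
    fun h => huniq _ _ fun x y => ?_⟩
  rw [← hinv h x, ← mul_assoc, ← map_mul]; simp

theorem card_dvd_of_pow_eq_one [Finite H] (ι : H →* K) (hι : Function.Injective ι) {m : ℕ}
    (h : ∀ x, ι x ^ m = 1) : Nat.card H ∣ m := by
  have : IsCyclic H := isCyclic_of_injective_ringHom ι hι
  rw [← IsCyclic.exponent_eq_card]
  exact Monoid.exponent_dvd_of_forall_pow_eq_one fun x => hι (by rw [map_pow, h, map_one])

theorem selfDual_field [Finite H] (ι : H →* K) (hinj : Function.Injective ι)
    (hι : Algebra.adjoin F (Set.range ι) = ⊤) :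
    (Module.finrank F K = 1 → (∃ B : LinearMap.BilinForm F K, B.Nondegenerate ∧
      ∀ h x y, B (ι h * x) (ι h * y) = B x y) → Nat.card H ≤ 2) ∧
    (2 ≤ Module.finrank F K → ((∃ B : LinearMap.BilinForm F K, B.Nondegenerate ∧
      ∀ h x y, B (ι h * x) (ι h * y) = B x y) ↔ (Even (Module.finrank F K) ∧
        Nat.card H ∣ Fintype.card F ^ (Module.finrank F K / 2) + 1))) := by
  have : Finite K := Module.finite_of_finite F
  have hpow : ∀ (k : ℕ) (x : K),
      (FiniteField.frobeniusAlgHom F K ^ k) x = x ^ Fintype.card F ^ k := by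
    intro k x
    rw [AlgHom.coe_pow, FiniteField.coe_frobeniusAlgHom, pow_iterate]
  have hmul : ∀ h, ι h⁻¹ * ι h = 1 := fun h => by rw [← map_mul]; simp
  refine ⟨fun h1 ⟨B, hB, hinv⟩ => ?_, fun h2 => ⟨fun ⟨B, hB, hinv⟩ => ?_, fun ⟨hev, hd⟩ => ?_⟩⟩
  · obtain ⟨σ, hσ⟩ := exists_adjoint_aut ι hι B hB hinv
    obtain ⟨k, rfl⟩ := (FiniteField.bijective_frobeniusAlgHom_pow F K).2 σ
    have hk : k.1 = 0 := by have := k.2; omega
    refine Nat.le_of_dvd two_pos (card_dvd_of_pow_eq_one ι hinj fun x => ?_)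
    have := hσ x
    simp only [hk, pow_zero, AlgHom.one_apply] at this
    rw [sq]; nth_rewrite 1 [this]; exact hmul x
  · obtain ⟨σ, hσ⟩ := exists_adjoint_aut ι hι B hB hinv
    have hσ2 : σ * σ = 1 := by
      apply AlgHom.ext_of_adjoin_eq_top hι
      rintro _ ⟨h, rfl⟩
      simp [hσ]
    have hσ1 : σ ≠ 1 := by
      intro h
      have h3 : Algebra.adjoin F (Set.range ι) ≤ ⊥ := by
        rw [Algebra.adjoin_le_iff]
        rintro _ ⟨x, rfl⟩
        have h4 := hσ x
        rw [h, AlgHom.one_apply] at h4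
        have h5 : ι x * ι x = 1 := by nth_rewrite 1 [h4]; exact hmul x
        rcases mul_self_eq_one_iff.mp h5 with h6 | h6 <;> rw [h6]
        · exact one_mem _
        · exact neg_mem (one_mem _)
      rw [hι, top_le_iff, Subalgebra.bot_eq_top_iff_finrank_eq_one] at h3
      omega
    obtain ⟨k, rfl⟩ := (FiniteField.bijective_frobeniusAlgHom_pow F K).2 σ
    simp only at hσ hσ1 hσ2
    rw [← pow_add, ← orderOf_dvd_iff_pow_eq_one, FiniteField.orderOf_frobeniusAlgHom] at hσ2
    have hk0 : k.1 ≠ 0 := fun h => hσ1 (by rw [h, pow_zero])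
    have hk : Module.finrank F K = k + k := by
      obtain ⟨c, hc⟩ := hσ2
      have := k.2
      have hc1 : c = 1 := by
        rcases c with _ | _ | c
        · omega
        · rfl
        · nlinarith
      rw [hc, hc1, mul_one]
    refine ⟨⟨k, hk⟩, card_dvd_of_pow_eq_one ι hinj fun x => ?_⟩
    rw [show Module.finrank F K / 2 = k by omega, pow_succ, ← hpow, hσ, hmul]
  · let σ := FiniteField.frobeniusAlgHom F K ^ (Module.finrank F K / 2)
    have hσ : Function.Surjective σ := Finite.surjective_of_injective σ.injective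
    have hnd := traceForm_nondegenerate F K
    refine ⟨(Algebra.traceForm F K).compl₁₂ LinearMap.id σ.toLinearMap, ⟨fun x hx => ?_,
      fun y hy => ?_⟩, fun h x y => ?_⟩
    · refine hnd.1 x fun y => ?_
      obtain ⟨y, rfl⟩ := hσ y
      exact hx y
    · exact σ.injective ((hnd.2 (σ y) hy).trans (map_zero σ).symm)
    · simp only [LinearMap.compl₁₂_apply, LinearMap.id_apply, AlgHom.toLinearMap_apply,
        Algebra.traceForm_apply, map_mul]
      congr 1
      have h1 : σ (ι h) * ι h = 1 := by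
        rw [hpow, ← pow_succ, ← map_pow, orderOf_dvd_iff_pow_eq_one.mp
          ((orderOf_dvd_natCard h).trans hd), map_one]
      linear_combination (x * σ y) * h1

theorem selfDual_abelian [Finite H] {V : Type*} [AddCommGroup V] [Module F V]
    [FiniteDimensional F V] (ρ : Representation F H V) (hfaith : Function.Injective ρ)
    (hirr : ∀ U : Submodule F V, (∀ h : H, ∀ u ∈ U, ρ h u ∈ U) → U = ⊥ ∨ U = ⊤) :
    (Module.finrank F V = 1 → (∃ B : LinearMap.BilinForm F V, B.Nondegenerate ∧
      ∀ h : H, ∀ x y : V, B (ρ h x) (ρ h y) = B x y) → Nat.card H ≤ 2) ∧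
    (2 ≤ Module.finrank F V → ((∃ B : LinearMap.BilinForm F V, B.Nondegenerate ∧
      ∀ h : H, ∀ x y : V, B (ρ h x) (ρ h y) = B x y) ↔ (Even (Module.finrank F V) ∧
        Nat.card H ∣ Fintype.card F ^ (Module.finrank F V / 2) + 1))) := by
  rcases subsingleton_or_nontrivial V with hV | hV
  · rw [Module.finrank_zero_of_subsingleton]
    exact ⟨fun h => absurd h (by decide), fun h => absurd h (by decide)⟩
  obtain ⟨K, _, _, ι, e, he, hι⟩ := exists_field_of_irreducible ρ hirr
  have : FiniteDimensional F K := e.symm.finiteDimensional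
  have hinj : Function.Injective ι := by
    intro a b h
    apply hfaith
    ext v
    obtain ⟨k, rfl⟩ := e.surjective v
    rw [← he, ← he, h]
  have hiff : (∃ B : LinearMap.BilinForm F V, B.Nondegenerate ∧
      ∀ h : H, ∀ x y : V, B (ρ h x) (ρ h y) = B x y) ↔ (∃ B : LinearMap.BilinForm F K,
        B.Nondegenerate ∧ ∀ h x y, B (ι h * x) (ι h * y) = B x y) := by
    constructor
    · rintro ⟨B, hB, hinv⟩
      refine ⟨LinearMap.BilinForm.congr e.symm B, hB.congr _, fun h x y => ?_⟩
      simp [he, hinv]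
    · rintro ⟨B, hB, hinv⟩
      refine ⟨LinearMap.BilinForm.congr e B, hB.congr _, fun h x y => ?_⟩
      obtain ⟨x, rfl⟩ := e.surjective x
      obtain ⟨y, rfl⟩ := e.surjective y
      simp [← he, hinv]
  rw [hiff, ← e.finrank_eq]
  exact selfDual_field ι hinj hι

end Abelian

end Cfsg.Agent.H4
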