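import Cfsg.Agent.Lib.H4.Misc2
import Cfsg.Agent.Lib.H4.LinG
import Cfsg.Agent.Lib.H2.Gen
import Cfsg.Agent.Lib.H1.Cores

/-!
Solvable groups with a single class of vanishing `p`-singular elements.
-/

set_option autoImplicit false
set_option linter.unusedSectionVars false

namespace Cfsg.Agent.H4

open Cfsg Subgroup H3

universe u

theorem exists_regular {W ι : Type*} [CommGroup W] [Finite ι] (f : ι → W →* W) {n : ℕ}
    (hc : ∀ i j w, f i (f j w) = f j (f i w)) (hn : ∀ i w, (f i)^[n] w = w)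
    (hW : ∀ w : W, w ^ n = 1 → w = 1) : ∃ w, ∀ i, f i w = w → ∀ v, f i v = v := by
  obtain ⟨w, hw⟩ : ∃ w, ∀ w', ¬ {i | f i w' = w'}.ncard < {i | f i w = w}.ncard :=
    ⟨_, Function.not_lt_argmin fun w => {i | f i w = w}.ncard⟩
  refine ⟨w, fun d hd v => ?_⟩
  by_contra hv
  obtain ⟨N, hN⟩ : ∃ N : W → W, ∀ x, N x = ∏ k ∈ Finset.range n, (f d)^[k] x := ⟨_, fun _ => rfl⟩
  have n1 : ∀ x y, N (x * y) = N x * N y := fun x y => by
    simp only [hN, iterate_map_mul, Finset.prod_mul_distrib]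
  have n2 : ∀ x, f d x = x → N x = x ^ n := fun x hx => by
    simp only [hN, Function.iterate_fixed hx, Finset.prod_const, Finset.card_range]
  have n3 : ∀ i x, f i (N x) = N (f i x) := fun i x => by
    simp only [hN, map_prod]
    exact Finset.prod_congr rfl fun k _ =>
      (Function.Commute.iterate_right (f := f i) (g := f d) (hc i d) k).eq x
  have n4 : N (v⁻¹ * f d v) = 1 := by
    have := Finset.prod_range_succ (fun k => (f d)^[k] v) n
    rw [Finset.prod_range_succ', hn, Function.iterate_zero_apply, mul_left_inj] at this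
    simp only [hN, iterate_map_mul, iterate_map_inv, Finset.prod_mul_distrib,
      Finset.prod_inv_distrib, ← Function.iterate_succ_apply, this, inv_mul_cancel]
  refine hw (w * (v⁻¹ * f d v)) (Set.ncard_lt_ncard ⟨fun i hi => ?_, fun h => ?_⟩)
  · have := n3 i (w * (v⁻¹ * f d v))
    rw [show f i _ = _ from hi, n1, n4, mul_one, n2 w hd, map_pow] at this
    exact mul_inv_eq_one.1 (hW _ (by rw [mul_pow, this, inv_pow, mul_inv_cancel]))
  · have := h hd
    rw [Set.mem_ofPred_eq, map_mul, hd, mul_right_inj] at this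
    exact hv (inv_mul_eq_one.1 (hW _ (by rw [← n2 _ this, n4]))).symm

variable {G : Type u} [Group G] [Finite G] {p r : ℕ} [Fact p.Prime]

/-- an irreducible character vanishing on the elements with a power in `K` outside `M` -/
theorem exists_vanish {M K : Subgroup G} [M.Normal] [K.Normal] [IsMulCommutative M] {n : ℕ}
    (hn : n.Coprime (Nat.card M)) (h1 : ∀ x ∈ K, ∀ y ∈ K, x⁻¹ * y⁻¹ * x * y ∈ M)
    (h2 : ∀ x ∈ K, x ^ n ∈ M) (h3 : ∀ x ∈ K, (∀ m ∈ M, x * m = m * x) → x ∈ M) :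
    ∃ χ : IrrCharacter G, ∀ x k, x ^ k ∈ K → x ^ k ∉ M → (χ : G → ℂ) x = 0 := by
  classical
  haveI := Fintype.ofFinite G
  letI : CommGroup M := { (inferInstance : Group M) with mul_comm := mul_comm' }
  have c : ∀ m ∈ M, ∀ m' ∈ M, m * m' * m⁻¹ = m' := fun m hm m' hm' => by
    rw [H2.comm_of_isMulCommutative hm hm', mul_inv_cancel_right]
  let f : K → (M →* ℂˣ) →* (M →* ℂˣ) := fun b =>
    { toFun := fun l => l.comp (MulAut.conjNormal (b : G)).toMonoidHom
      map_one' := rfl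
      map_mul' := fun _ _ => rfl }
  have it : ∀ b k l m, (f b)^[k] l m = l (MulAut.conjNormal ((b : G) ^ k) m) := fun b k => by
    induction k with
    | zero => simp
    | succ k ih => intro l m; rw [Function.iterate_succ_apply, ih, pow_succ', map_mul]; rfl
  obtain ⟨l, hl⟩ := exists_regular f (n := n) (fun a b l => MonoidHom.ext fun m => congrArg l
      (Subtype.ext (by
        change (b : G) * (a * m * (a : G)⁻¹) * (b : G)⁻¹ = a * (b * m * (b : G)⁻¹) * (a : G)⁻¹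
        nth_rewrite 1 [← c _ (h1 a a.2 b b.2) _ m.2]
        group)))
    (fun b l => MonoidHom.ext fun m => by
      rw [it]; exact congrArg l (Subtype.ext (c _ (h2 b b.2) _ m.2)))
    (fun l hl => MonoidHom.ext fun m => by
      obtain ⟨m', rfl⟩ := (powCoprime hn.symm).surjective m
      rw [powCoprime_apply, map_pow, ← MonoidHom.pow_apply, hl]; rfl)
  have hθ := isIrrCharacter_linear l
  obtain ⟨χ, hχ⟩ := exists_irr_const (indFun_isClassFunction M fun m => (l m : ℂ)) fun h => by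
    simpa [indFun_one, index_ne_zero_of_finite] using congrFun h 1
  rw [frobenius_reciprocity _ _ (IsCharacter_isClassFunction (irr_isChar χ)), Ne,
    classInner_eq_zero_comm] at hχ
  obtain ⟨ψ, -, -, e⟩ := exists_clifford_correspondent hθ
    (le_inertia (IsCharacter_isClassFunction (IsIrrCharacter_isCharacter hθ))) rfl χ.2 hχ
  refine ⟨χ, fun x k hk hk' => e ▸ indFun_eq_zero_of_not_conj _ _ fun g hg => hk' ?_⟩
  have h4 : g⁻¹ * x ^ k * g ∈ K := ‹K.Normal›.conj_mem' _ hk g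
  have h5 := pow_mem hg k
  rw [show (g⁻¹ * x * g) ^ k = g⁻¹ * x ^ k * g by simpa using conj_pow (a := g⁻¹) (b := x) (i := k),
    mem_inertia] at h5
  have h6 := hl ⟨_, h4⟩ (MonoidHom.ext fun m => Units.ext (congrFun h5 m))
  simpa [mul_assoc] using ‹M.Normal›.conj_mem _ (h3 _ h4 fun m hm => by
    by_contra hc
    obtain ⟨φ, hφ⟩ := CommGroup.exists_apply_ne_one_of_hasEnoughRootsOfUnity M ℂ
      (a := MulAut.conjNormal (g⁻¹ * x ^ k * g) ⟨m, hm⟩ * (⟨m, hm⟩ : M)⁻¹) fun e =>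
        hc (mul_inv_eq_iff_eq_mul.1 (mul_inv_eq_one.1 (congrArg Subtype.val e)))
    exact hφ (by rw [map_mul, map_inv, mul_inv_eq_one]; exact DFunLike.congr_fun (h6 φ) ⟨m, hm⟩)) g

/-- any two vanishing `p`-singular elements are conjugate -/
def OneVan (p : ℕ) (G : Type*) [Group G] : Prop :=
  ∀ x y : G, (∃ χ : IrrCharacter G, (χ : G → ℂ) x = 0) → (∃ χ : IrrCharacter G, (χ : G → ℂ) y = 0) →
    p ∣ orderOf x → p ∣ orderOf y → IsConj x y

theorem van_of_map {H : Type*} [Group H] [Finite H] {f : G →* H} (hf : Function.Surjective f)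
    {x : G} (h : ∃ χ : IrrCharacter H, (χ : H → ℂ) (f x) = 0) :
    ∃ χ : IrrCharacter G, (χ : G → ℂ) x = 0 :=
  let ⟨χ, e⟩ := h
  ⟨⟨_, isIrr_comp_surjective f hf χ.2⟩, e⟩

theorem OneVan.map {H : Type*} [Group H] [Finite H] {f : G →* H} (hf : Function.Surjective f)
    (h : OneVan p G) : OneVan p H := fun x y h1 h2 h3 h4 => by
  obtain ⟨x, rfl⟩ := hf x
  obtain ⟨y, rfl⟩ := hf y
  exact f.map_isConj (h x y (van_of_map hf h1) (van_of_map hf h2)
    (h3.trans (orderOf_map_dvd f x)) (h4.trans (orderOf_map_dvd f y)))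

theorem dvd_orderOf_of_pow {x : G} {j : ℕ} (h : x ^ p ^ j = 1) (h1 : x ≠ 1) : p ∣ orderOf x := by
  obtain ⟨i, -, e⟩ := (Nat.dvd_prime_pow Fact.out).1 (orderOf_dvd_of_pow_eq_one h)
  rcases i with _ | i
  · exact absurd (orderOf_eq_one_iff.1 e) h1
  · exact e ▸ dvd_pow_self p i.succ_ne_zero

theorem van_of_comm {B : Subgroup G} [B.Normal] {e : G} (hB : B ≠ ⊥)
    (h : ∀ n ∈ B, IsConj e (n * e)) : ∃ χ : IrrCharacter G, (χ : G → ℂ) e = 0 := by
  classical
  haveI := Fintype.ofFinite G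
  obtain ⟨z, hz, hz1⟩ := (bot_or_exists_ne_one B).resolve_left hB
  obtain ⟨χ, hχ⟩ : ∃ χ : IrrCharacter G, (χ : G → ℂ) z ≠ (χ : G → ℂ) 1 := by
    by_contra hc
    push Not at hc
    exact hz1 (isConj_one_left.1 ((isConj_iff_irr _ _).2 hc))
  have := sum_coset_eq_zero B χ.2 ⟨z, hz, hχ⟩ e
  rw [Finset.sum_congr rfl fun n _ => show _ = (χ : G → ℂ) e from by
    obtain ⟨c, hc⟩ := isConj_iff.1 (h n n.2)
    rw [← hc]; exact IsCharacter_isClassFunction (irr_isChar χ) e c] at this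
  exact ⟨χ, by simpa using this⟩

theorem OneVan.step [Group.IsSolvable G] (h : OneVan p G) (hO : pCore p G = ⊥) {M : Subgroup G}
    [M.Normal] [IsMulCommutative M] (hM : M ≠ ⊥) (hr : r.Prime) (hMr : ∀ x ∈ M, x ^ r = 1)
    (hrp : r ≠ p) (h0 : pCore p (G ⧸ M) ≠ ⊥) : ¬ p ^ 2 ∣ Nat.card (G ⧸ M) := by
  intro hd
  have hp : p.Prime := Fact.out
  have hco := (Nat.coprime_primes hp hr).2 hrp.symm
  haveI := Fact.mk hr
  obtain ⟨π, hπ⟩ : ∃ π, π = QuotientGroup.mk' M := ⟨_, rfl⟩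
  have hs : Function.Surjective π := hπ ▸ QuotientGroup.mk'_surjective M
  have hk : ∀ x, π x = 1 ↔ x ∈ M := fun x => hπ ▸ QuotientGroup.eq_one_iff x
  obtain ⟨B₀, b1, b2, b3, -, b4, -⟩ := H2.exists_minimal_normal_pgroup _ h0
  obtain ⟨B, b5, ⟨hB, hBc, hBp⟩, hmax⟩ := (Set.toFinite {B : Subgroup (G ⧸ M) | B.Normal ∧
    IsMulCommutative B ∧ IsPGroup p B}).exists_le_maximal
    ⟨b1, b4, (H1.pCore_isPGroup p _).to_le b3⟩
  have hB1 : B ≠ ⊥ := fun e => b2 (le_bot_iff.1 (e ▸ b5))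
  obtain ⟨j, hj⟩ := IsPGroup.iff_card.1 hBp
  have hBj : ∀ x ∈ B, x ^ p ^ j = 1 := fun x hx =>
    hj ▸ congrArg Subtype.val (pow_card_eq_one' (x := (⟨x, hx⟩ : B)))
  have m1 : ∀ x ∈ M, ∀ i, x ^ p ^ i = 1 → x = 1 := fun x hx i e => by
    rw [← pow_one x, ← hco.pow_left i, pow_gcd_eq_one]; exact ⟨e, hMr x hx⟩
  have hMK : M ≤ B.comap π := fun x hx => by rw [mem_comap, (hk x).2 hx]; exact one_mem _
  have c1 : ∀ x ∈ B.comap π, ∀ y ∈ B.comap π, x⁻¹ * y⁻¹ * x * y ∈ M := fun x hx y hy => by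
    rw [← hk, map_mul, mul_assoc, map_mul, map_mul, mul_assoc, mul_assoc, map_inv, map_inv,
      H2.comm_of_isMulCommutative (mem_comap.1 hx) (mem_comap.1 hy)]
    simp
  obtain ⟨χ, hχ⟩ := exists_vanish (M := M) (K := B.comap π) (n := p ^ j) (by
      obtain ⟨i, hi⟩ := IsPGroup.iff_card.1 (H2.isPGroup_of_forall_pow_eq_one hMr)
      exact hi ▸ (hco.pow j i)) c1 (fun x hx => by rw [← hk, map_pow, hBj _ hx]) fun x hx hc => by
    haveI := hBp.isNilpotent
    have h1 := H1.le_fittingSubgroup (N := B.comap π ⊓ centralizer (M : Set G)) inferInstance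
      (Subgroup.isNilpotent_of_ker_le_center ((π.comp (Subgroup.subtype _)).codRestrict B
        fun y => y.2.1) fun y hy => mem_center_iff.2 fun z => Subtype.ext
          (z.2.2 y ((hk _).1 (congrArg Subtype.val hy))).symm)
    have h2 := H1.le_pCore_of_le_fittingSubgroup (H6.isPGroup_zpowers (x := x ^ r) (k := j) (by
      rw [← pow_mul, mul_comm, pow_mul]; exact hMr _ (by rw [← hk, map_pow, hBj _ hx])))
      (zpowers_le.2 (pow_mem (h1 ⟨hx, fun m hm => (hc m hm).symm⟩) r)) (mem_zpowers _)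
    rw [hO, mem_bot] at h2
    rw [← hk, ← pow_one (π x), ← hco.pow_left j, pow_gcd_eq_one, ← map_pow π x r, h2, map_one]
    exact ⟨hBj _ hx, rfl⟩
  have hv : ∀ x k, π x ^ k ∈ B → π x ^ k ≠ 1 →
      (∃ χ : IrrCharacter G, (χ : G → ℂ) x = 0) ∧ p ∣ orderOf x := fun x k h1 h2 =>
    ⟨⟨χ, hχ x k (by rwa [mem_comap, map_pow]) (by rwa [← hk, map_pow])⟩,
      ((dvd_orderOf_of_pow (hBj _ h1) h2).trans (orderOf_pow_dvd k)).trans (orderOf_map_dvd π x)⟩
  obtain ⟨A⟩ : Nonempty (Sylow p (B.comap π)) := inferInstance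
  have hA := H2.sylow_sup_eq_of_isPGroup_map hMK (by
    rw [← hπ, map_comap_eq_self_of_surjective hs]; exact hBp) A
  have hAp := A.isPGroup'.map (B.comap π).subtype
  generalize (A : Subgroup (B.comap π)).map (B.comap π).subtype = A at hA hAp
  have hAK : A ≤ B.comap π := hA ▸ le_sup_left
  have a1 : ∀ x ∈ A, x ∈ M → x = 1 := fun x hx hx' =>
    let ⟨i, hi⟩ := H6.isPGroup_subgroup_iff.1 hAp x hx
    m1 x hx' i hi
  have a2 : A.map π = B := by
    rw [← map_comap_eq_self_of_surjective hs B, ← hA, Subgroup.map_sup,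
      (map_eq_bot_iff M).2 fun x hx => (hk x).2 hx, sup_bot_eq]
  obtain ⟨a, ha, ha1⟩ : ∃ a ∈ A, orderOf a = p := by
    obtain ⟨i, hi⟩ := IsPGroup.iff_card.1 hAp
    obtain ⟨a, ha⟩ := exists_prime_orderOf_dvd_card' (G := A) p (hi ▸ dvd_pow_self p (by
      rintro rfl
      exact hB1 (by rw [← a2, card_eq_one.1 hi, Subgroup.map_bot])))
    exact ⟨a, a.2, by rwa [Subgroup.orderOf_coe]⟩
  have ha2 : π a ≠ 1 := fun e => hp.ne_one (by rw [← ha1, a1 a ha ((hk a).1 e), orderOf_one])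
  have hva := hv a 1 (by simpa using hAK ha) (by simpa using ha2)
  have hP : ∀ x k, π x ^ k ∈ B → π x ^ k ≠ 1 → x ^ p = 1 := fun x k h1 h2 => by
    obtain ⟨c, rfl⟩ := isConj_iff.1 (h a x hva.1 (hv x k h1 h2).1 hva.2 (hv x k h1 h2).2)
    rw [conj_pow, ← ha1, pow_orderOf_eq_one]; simp
  have hcyc := H2.isCyclic_of_fpf A M hM (by rw [normalizer_eq_top]; exact le_top)
    (fun x hx hx1 => eq_bot_iff.2 fun m hm => by
      have h1 : π x ≠ 1 := fun e => hx1 (a1 x hx ((hk x).1 e))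
      have h2 := hP (m * x) 1 (by simpa [(hk m).2 hm.1] using hAK hx)
        (by simpa [(hk m).2 hm.1] using h1)
      rw [Commute.mul_pow (mem_centralizer_singleton_iff.1 hm.2),
        hP x 1 (by simpa using hAK hx) (by simpa using h1), mul_one] at h2
      exact m1 m hm.1 1 (by rwa [pow_one]))
    (Or.inl ⟨⟨fun x y => Subtype.ext (by
      have := a1 _ (x⁻¹ * y⁻¹ * x * y).2 (c1 x (hAK x.2) y (hAK y.2))
      simpa [mul_assoc, inv_mul_eq_iff_eq_mul] using this)⟩⟩)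
  obtain ⟨a₀, ha₀⟩ := (Subgroup.isCyclic_iff_exists_zpowers_eq_top A).1 hcyc
  have o1 : ∀ z ∈ B, z ≠ 1 → orderOf z = p := fun z hz hz1 => by
    obtain ⟨x, rfl⟩ := hs z
    exact orderOf_eq_prime (by rw [← map_pow, hP x 1 (by simpa) (by simpa), map_one]) hz1
  have hBc' : Nat.card B = p := by
    have e : B = zpowers (π a₀) := by rw [← a2, ← ha₀, MonoidHom.map_zpowers]
    rw [e, Nat.card_zpowers]
    exact o1 _ (e ▸ mem_zpowers _) fun e' => hB1 (by rw [e, e', zpowers_one_eq_bot])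
  have gen : ∀ z ∈ B, z ≠ 1 → zpowers z = B := fun z hz hz1 =>
    eq_of_le_of_card_ge (zpowers_le.2 hz) (by rw [Nat.card_zpowers, o1 z hz hz1, hBc'])
  have hC : IsPGroup p (centralizer (B : Set (G ⧸ M))) := H6.isPGroup_subgroup_iff.2 fun c hc => by
    obtain ⟨i, m, hm, e⟩ := Nat.exists_eq_pow_mul_and_not_dvd (orderOf_pos c).ne' p hp.ne_one
    have cm : Commute (π a) (c ^ p ^ i) := Commute.pow_right (hc _ (hAK ha)) _
    obtain ⟨x, hx⟩ := hs (π a * c ^ p ^ i)
    have e1 : π x ^ m = π a ^ m := by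
      rw [hx, cm.mul_pow, ← pow_mul, ← e, pow_orderOf_eq_one, mul_one]
    have e2 := congrArg π (hP x m (e1 ▸ B.pow_mem (hAK ha) m) (by
      rwa [e1, Ne, ← orderOf_dvd_iff_pow_eq_one, o1 _ (hAK ha) ha2]))
    rw [map_pow, hx, cm.mul_pow, ← map_pow, ← ha1, pow_orderOf_eq_one, map_one, one_mul, ha1,
      ← pow_mul, ← pow_succ] at e2
    exact ⟨_, e2⟩
  obtain ⟨e, he, he1, he2⟩ := exists_central_mod (Z := B) hC le_rfl le_normalizer fun hle => by
    obtain ⟨P⟩ : Nonempty (Sylow p (G ⧸ M)) := inferInstance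
    obtain ⟨c, hc, hc1, hc2⟩ := exists_central_mod (Z := ⊥) P.isPGroup'
      ((H1.le_pCore hB hBp).trans (H1.pCore_le_sylow P)) (by rw [normalizer_eq_top]; exact le_top)
      (by simpa using hB1)
    have h1 : (P : Subgroup (G ⧸ M)) ≤ B := le_trans (fun t ht => by
      rw [← gen c hc hc1, zpowers_eq_closure, centralizer_closure, mem_centralizer_singleton_iff]
      have := mem_bot.1 (hc2 t ht)
      rw [mul_inv_eq_one, mul_inv_eq_iff_eq_mul] at this
      exact this.symm) hle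
    have h2 := card_dvd_of_le h1
    rw [hBc', P.card_eq_multiplicity] at h2
    have h3 := (hp.pow_dvd_iff_le_factorization Nat.card_pos.ne').1 hd
    have := (Nat.pow_dvd_pow_iff_le_right hp.one_lt).1 (h2.trans (pow_one p).symm.dvd)
    omega
  obtain ⟨t, ht, ht1⟩ : ∃ t ∈ centralizer (B : Set (G ⧸ M)), t * e ≠ e * t := by
    by_contra hc
    push Not at hc
    exact he1 (hmax (y := centralizer (B : Set (G ⧸ M)) ⊓
      centralizer (centralizer (B : Set (G ⧸ M)) : Set (G ⧸ M)))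
      ⟨inferInstance, ⟨⟨fun x y => Subtype.ext (y.2.2 x x.2.1)⟩⟩, hC.to_le inf_le_left⟩
      (le_inf (le_centralizer B) fun x hx y hy => (hy x hx).symm) ⟨he, hc⟩)
  have hz : t * e * t⁻¹ * e⁻¹ ∈ B := by simpa [mul_assoc] using inv_mem (he2 t ht)
  obtain ⟨x, rfl⟩ := hs e
  obtain ⟨i, hi⟩ := H6.isPGroup_subgroup_iff.1 hC _ he
  obtain ⟨c, rfl⟩ := isConj_iff.1 (h a x hva.1 (van_of_map hs (van_of_comm hB1 fun n hn => by
    rw [← gen _ hz (by rwa [Ne, mul_inv_eq_one, mul_inv_eq_iff_eq_mul]),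
      ← mem_powers_iff_mem_zpowers] at hn
    obtain ⟨k, rfl⟩ := hn
    induction k with
    | zero => simpa using IsConj.refl (π x)
    | succ k ih =>
      refine ih.trans (isConj_iff.2 ⟨t, ?_⟩)
      beta_reduce
      rw [← mul_assoc, ← ht _ (pow_mem hz k), pow_succ]
      group)) hva.2 ((dvd_orderOf_of_pow hi fun e => he1 (e ▸ one_mem _)).trans
        (orderOf_map_dvd π x)))
  exact he1 (by simpa using hB.conj_mem _ (hAK ha) (π c))

theorem OneVan.not_dvd (n : ℕ) : ∀ (G : Type u) [Group G] [Finite G] [Group.IsSolvable G],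
    Nat.card G = n → OneVan p G → pCore p G = ⊥ → ¬ p ^ 2 ∣ Nat.card G := by
  induction n using Nat.strong_induction_on with
  | _ n ih =>
  intro G _ _ _ hn h hO hd
  have hp : p.Prime := Fact.out
  have h1 : (⊤ : Subgroup G) ≠ ⊥ := fun e => by
    rw [← card_top, e, card_bot, Nat.dvd_one, Nat.pow_eq_one] at hd
    exact hd.elim hp.ne_one (by simp)
  obtain ⟨M, hM, hM1, -, -, hc, r, hr, hMr, hMr'⟩ := H2.exists_minimal_normal_pgroup ⊤ h1
  have hrp : r ≠ p := by
    rintro rfl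
    exact hM1 (le_bot_iff.1 (hO ▸ H1.le_pCore hM hMr))
  haveI := Fact.mk hr
  obtain ⟨k, hk⟩ := IsPGroup.iff_card.1 hMr
  have h2 : p ^ 2 ∣ Nat.card (G ⧸ M) := by
    rw [card_eq_card_quotient_mul_card_subgroup M, hk] at hd
    exact (Nat.coprime_pow_primes _ _ hp hr hrp.symm).dvd_of_dvd_mul_right hd
  by_cases h0 : pCore p (G ⧸ M) = ⊥
  · refine ih _ ?_ (G ⧸ M) rfl (h.map (QuotientGroup.mk'_surjective M)) h0 h2
    rw [← hn, card_eq_card_quotient_mul_card_subgroup M]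
    exact lt_mul_of_one_lt_right Nat.card_pos ((one_lt_card_iff_ne_bot M).2 hM1)
  · exact h.step hO hM1 hr hMr' hrp h0 h2

end Cfsg.Agent.H4
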